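import Cfsg.Agent.Lib.Sporadic.ConwayPsu43.Cert
import Cfsg.Agent.Lib.Sporadic.TwinIso
import Cfsg.Agent.Lib.Sporadic.ConwayPairOrders
import Cfsg.Agent.Lib.Golay.LeechOrbit.CertA
import Cfsg.Agent.Lib.Golay.LeechOrbit.CertMcL

/-! The stabiliser of a point in the action on 275 points is `PSU₄(3)`. -/

set_option autoImplicit false
set_option linter.unusedSectionVars false

namespace CfsgLib.Sporadic.ConwayPsu43

open Matrix
open Cfsg CfsgLib.Golay CfsgLib.Golay.LeechOrbit CfsgLib.MonsterType CfsgLib.Sporadic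
open CfsgLib.ClassicalGroups

/-- The standard stabiliser. -/
abbrev G0 : Subgroup Co0 := consStab [(Spor.leechV, 24), (negU, 16), (root275, 0)]

theorem card_G0 : Nat.card G0 = 3265920 := by
  have := co0_finite
  have hP : Nat.card (ConwayPairs.pairStab negU) = 898128000 :=
    Nat.eq_of_mul_eq_mul_right (show 0 < 552 by norm_num)
      ((ConwayPairOrders.card_pair (r := negU) spec552).trans (by norm_num))
  set H := ConwayPairs.pairStab negU with hH'
  have hcs : consStab cs275 = H := by
    ext γ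
    simp [cs275, mem_consStab, H, ConwayPairs.pairStab, MulAction.mem_stabilizer_iff]
  have horb : MulAction.orbit H root275 = consSet cs275 := by
    have h' := spec275.orbit_eq spec275.root_mem
    rw [hcs] at h'
    exact h'
  have hos := (MulAction.stabilizer H root275).card_mul_index
  rw [MulAction.index_stabilizer, horb, spec275.ncard, hP] at hos
  have hle : G0 ≤ H := fun γ h =>
    ⟨h (Spor.leechV, 24) (by simp), h (negU, 16) (by simp)⟩
  have hst : MulAction.stabilizer H root275 = G0.subgroupOf H := by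
    ext γ
    have h1 : (γ : Co0) • Spor.leechV = Spor.leechV := γ.2.1
    have h2 : (γ : Co0) • negU = negU := γ.2.2
    simp [Subgroup.mem_subgroupOf, MulAction.mem_stabilizer_iff, G0, mem_consStab, Subgroup.smul_def]
    exact ⟨fun h => ⟨h1, h2, h⟩, fun h => h.2.2⟩
  rw [hst, Nat.card_congr (Subgroup.subgroupOfEquivOfLe hle).toEquiv] at hos
  exact Nat.eq_of_mul_eq_mul_right (show 0 < 275 by norm_num) (hos.trans (by norm_num))

set_option maxRecDepth 100000 in
theorem gen_mem (k : Fin 4) : wordW (gWs.getD k []) ∈ G0 := by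
  have hg := gens_ok
  simp only [Bool.and_eq_true, beq_iff_eq] at hg
  have hmem : gWs.getD k [] ∈ gWs := by
    rw [List.getD_eq_getElem _ _ (by rw [hg.1.2]; exact k.2)]
    exact List.getElem_mem _
  exact mem_consStab_of_fixB (ws := gWs) (cs := [(Spor.leechV, 24), (negU, 16), (root275, 0)])
    fix_ok _ hmem

/-- The generators. -/
noncomputable def sGen (k : Fin 4) : G0 := ⟨wordW (gWs.getD k []), gen_mem k⟩

section Model

variable {F : Type*} [Field F] [Fintype F] (hF : Fintype.card F = 3 ^ 2) {w : F} (hw : w ^ 2 = -1)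

/-- The line at an index. -/
noncomputable def line (w : F) (i : ℕ) : Submodule F (Fin 4 → F) :=
  Submodule.span F {vec w (base1 i), vec w (base2 i)}

/-- An automorphism maps the vectors as a unitary class maps the lines. -/
def Twin (w : F) (g : G0) (q : Cfsg.PSU 4 F 3) : Prop :=
  ∃ M : Cfsg.SU 4 F 3, QuotientGroup.mk M = q ∧ ∀ i < 112, ∀ x : leechLattice,
    sqNorm (x : GolayPt → ℤ) = 32 → keyOf (x : GolayPt → ℤ) = keyT.get i →
      ∃ j < 112, keyOf (((g : Co0) • x : leechLattice) : GolayPt → ℤ) = keyT.get j ∧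
        ∀ y ∈ line w i, M.1.1 *ᵥ y ∈ line w j

theorem twin_one : Twin (F := F) w 1 1 :=
  ⟨1, rfl, fun i hi x _ e => ⟨i, hi, by rw [OneMemClass.coe_one, one_smul]; exact e,
    fun y hy => by rwa [SU_one_mulVec]⟩⟩

theorem twin_mul (g g' : G0) (q q' : Cfsg.PSU 4 F 3) (h : Twin w g q) (h' : Twin w g' q') :
    Twin w (g * g') (q * q') := by
  obtain ⟨M, rfl, hM⟩ := h
  obtain ⟨M', rfl, hM'⟩ := h'
  refine ⟨M * M', rfl, fun i hi x hx e => ?_⟩
  obtain ⟨j, hj, ej, hj'⟩ := hM' i hi x hx e
  obtain ⟨l, hl, el, hl'⟩ := hM j hj ((g' : Co0) • x) (by rw [sqNorm_smul_lat, hx]) ej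
  refine ⟨l, hl, by rw [MulMemClass.coe_mul, mul_smul]; exact el, fun y hy => ?_⟩
  have := hl' _ (hj' y hy)
  rwa [Matrix.mulVec_mulVec] at this

include hF hw

theorem mem_line {i : ℕ} {u : ℕ → ℕ} (h : inSpan (base1 i) (base2 i) u = true) :
    vecF w u ∈ line w i := by
  simp only [inSpan, List.any_eq_true, combOK, List.all_eq_true, List.mem_range, beq_iff_eq] at h
  obtain ⟨s, -, r, -, h⟩ := h
  have e : vecF w u = el w s • vec w (base1 i) + el w r • vec w (base2 i) := by
    funext m
    simp only [vec, vecF, Pi.add_apply, Pi.smul_apply, smul_eq_mul, h m.1 m.2, el_addC hF hw,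
      el_mulC hF hw]
  rw [e]
  exact add_mem (Submodule.smul_mem _ _ (Submodule.subset_span (by simp)))
    (Submodule.smul_mem _ _ (Submodule.subset_span (by simp)))

theorem sameLine_spec {u : ℕ → ℕ} {v : ℕ} (h : sameLine u v = true) :
    ∃ s : F, s ≠ 0 ∧ vecF w u = s • vec w v := by
  simp only [sameLine, List.any_eq_true, Bool.and_eq_true, List.all_eq_true, List.mem_range,
    beq_iff_eq, Bool.not_eq_true', beq_eq_false_iff_ne] at h
  obtain ⟨s, hs, hs0, h⟩ := h
  refine ⟨el w s, fun e => hs0 (el_eq_zero hF hw hs e), ?_⟩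
  funext m
  simp only [vec, vecF, Pi.smul_apply, smul_eq_mul, h m.1 m.2, el_mulC hF hw]

theorem exists_gen (k : Fin 4) : ∃ A : Cfsg.SU 4 F 3,
    A.1.1 = Cfsg.unitaryTransvection 4 3 (vec w (gVecs.getD k 0)) (el w (gPar.getD k 0)) ∧
    el w (gPar.getD k 0) ≠ 0 ∧ el w (gPar.getD k 0) ^ 3 = -el w (gPar.getD k 0) := by
  have hg := gens_ok
  simp only [Bool.and_eq_true, Bool.or_eq_true, beq_iff_eq, List.all_eq_true, List.mem_range] at hg
  obtain ⟨hc, hh⟩ := hg.2 k k.2
  have hv : Cfsg.hermForm 4 F 3 (vec w (gVecs.getD k 0)) (vec w (gVecs.getD k 0)) = 0 := by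
    rw [herm_vec hF hw, hh]
    simp [el]
  have hc3 : el w (gPar.getD k 0) ^ 3 = -el w (gPar.getD k 0) := by
    rcases hc with h | h <;> rw [h]
    · simp only [el]
      norm_num
      linear_combination w * hw
    · simp only [el]
      norm_num
      linear_combination (8 * w) * hw - (2 * w) * three_eq_zero hF hw
  have hc0 : el w (gPar.getD k 0) ≠ 0 := fun e => by
    rcases hc with h | h <;> rw [h] at e <;> exact absurd (el_eq_zero hF hw (by norm_num) e) (by norm_num)
  obtain ⟨A, hA⟩ := exists_SU_tv hF hv hc3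
  exact ⟨A, hA, hc0, hc3⟩

theorem twin_gen (k : Fin 4) {A : Cfsg.SU 4 F 3}
    (hA : A.1.1 = Cfsg.unitaryTransvection 4 3 (vec w (gVecs.getD k 0)) (el w (gPar.getD k 0))) :
    Twin w (sGen k) (QuotientGroup.mk A) := by
  refine ⟨A, rfl, fun i hi x hx e => ?_⟩
  have h := moves_ok k k.2 i hi
  simp only [moveOK, forceN_eq, Bool.and_eq_true, Nat.blt_eq, decide_eq_true_eq] at h
  obtain ⟨⟨⟨hj, hdot⟩, h1⟩, h2⟩ := h
  set j := succT.get (112 * (k : ℕ) + i)
  refine ⟨j, hj, ?_, ?_⟩
  · have hcol : gCols.getD k [] = colsW (gWs.getD k []) := by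
      have hg := gens_ok
      simp only [Bool.and_eq_true, beq_iff_eq] at hg
      rw [cols_g, List.getD_eq_getElem _ _ (by rw [List.length_map, hg.1.2]; exact k.2),
        List.getD_eq_getElem _ _ (by rw [hg.1.2]; exact k.2), List.getElem_map]
    rw [hcol, digitsF_eq, ← toL_vecK, ← e, vecK_keyOf hx, ← pack_wordW] at hdot
    have e' : pack (((sGen k : Co0) • x : leechLattice) : GolayPt → ℤ) + off = (keyT.get j : ℤ) := by
      show pack ((wordW (gWs.getD k []) • x : leechLattice) : GolayPt → ℤ) + off = _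
      linarith
    rw [keyOf, e', Int.toNat_natCast]
  · intro y hy
    have hy' : y ∈ (line w j).comap A.1.1.mulVecLin := by
      refine Submodule.span_le.2 ?_ hy
      rintro z (rfl | rfl) <;>
        simp only [SetLike.mem_coe, Submodule.mem_comap, Matrix.mulVecLin_apply, hA,
          unitaryTransvection_mulVec, ← vecF_tvC hF hw]
      exacts [mem_line hF hw h1, mem_line hF hw h2]
    exact hy'

/-- All transvections at `v` are in `K`. -/
def InK (K : Subgroup (Cfsg.PSU 4 F 3)) (v : Fin 4 → F) : Prop :=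
  ∀ (A : Cfsg.SU 4 F 3) (c : F), c ^ 3 = -c → A.1.1 = Cfsg.unitaryTransvection 4 3 v c →
    QuotientGroup.mk A ∈ K

theorem inK_of_gen {K : Subgroup (Cfsg.PSU 4 F 3)} {v : Fin 4 → F} {A : Cfsg.SU 4 F 3} {c : F}
    (hv : Cfsg.hermForm 4 F 3 v v = 0) (hc0 : c ≠ 0) (hc : c ^ 3 = -c)
    (hA : A.1.1 = Cfsg.unitaryTransvection 4 3 v c) (hAK : QuotientGroup.mk A ∈ K) : InK K v := by
  intro B d hd hB
  have hd' : d = 0 ∨ d = c ∨ d = -c := by
    rcases trace_zero_cases hF hw hc with h | h | h
    · exact absurd h hc0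
    · rw [h]; exact trace_zero_cases hF hw hd
    · rw [h, neg_neg]; exact (trace_zero_cases hF hw hd).imp_right Or.symm
  rcases hd' with rfl | rfl | rfl
  · have : B = 1 := SU_ext fun x => by
      rw [hB, unitaryTransvection_mulVec, zero_mul, zero_smul, add_zero, SU_one_mulVec]
    rw [this]
    exact K.one_mem
  · rwa [show B = A from Subtype.ext (Subtype.ext (hB.trans hA.symm))]
  · have : A * B = 1 := SU_ext fun x => by
      rw [SU_mul_mulVec, hA, hB, unitaryTransvection_mulVec, unitaryTransvection_mulVec,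
        hermForm_add_left, hermForm_smul_left, hv, SU_one_mulVec]
      simp only [mul_zero, add_zero, neg_mul, neg_smul]
      abel
    rw [show B = A⁻¹ from eq_inv_of_mul_eq_one_right this]
    exact K.inv_mem hAK

theorem inK_smul {K : Subgroup (Cfsg.PSU 4 F 3)} {v : Fin 4 → F} {s : F} (hs : s ≠ 0) (h : InK K v) :
    InK K (s • v) := by
  intro A c hc hA
  have h8 : s ^ 8 = 1 := by
    have := FiniteField.pow_card_sub_one_eq_one s hs
    rwa [hF] at this
  refine h A (c * s ^ 4) ?_ (hA.trans (Matrix.ext_of_mulVec_single fun i => ?_))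
  · linear_combination (s ^ 12) * hc + (-c * s ^ 4) * h8
  · rw [unitaryTransvection_mulVec, unitaryTransvection_mulVec, hermForm_smul_right, smul_smul]
    congr 2
    ring

theorem inK_conj {K : Subgroup (Cfsg.PSU 4 F 3)} {v : Fin 4 → F} {A : Cfsg.SU 4 F 3}
    (hAK : QuotientGroup.mk A ∈ K) (h : InK K v) : InK K (A.1.1 *ᵥ v) := by
  intro B c hc hB
  have key := h (A⁻¹ * B * A) c hc (Matrix.ext_of_mulVec_single fun i => by
    rw [SU_mul_mulVec, SU_mul_mulVec, hB, unitaryTransvection_mulVec, unitaryTransvection_mulVec,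
      Matrix.mulVec_add, Matrix.mulVec_smul, SU_inv_mulVec_mulVec, SU_inv_mulVec_mulVec,
      mem_SU_iff.1 A.2])
  have e : (QuotientGroup.mk B : Cfsg.PSU 4 F 3) =
      QuotientGroup.mk A * QuotientGroup.mk (A⁻¹ * B * A) * (QuotientGroup.mk A)⁻¹ := by
    rw [← QuotientGroup.mk_inv, ← QuotientGroup.mk_mul, ← QuotientGroup.mk_mul]
    congr 1
    group
  rw [e]
  exact K.mul_mem (K.mul_mem hAK key) (K.inv_mem hAK)

theorem closure_gens (t : Fin 4 → Cfsg.SU 4 F 3)
    (ht : ∀ k : Fin 4, (t k).1.1 =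
        Cfsg.unitaryTransvection 4 3 (vec w (gVecs.getD k 0)) (el w (gPar.getD k 0)) ∧
      el w (gPar.getD k 0) ≠ 0 ∧ el w (gPar.getD k 0) ^ 3 = -el w (gPar.getD k 0)) :
    Subgroup.closure (Set.range fun k => (QuotientGroup.mk (t k) : Cfsg.PSU 4 F 3)) = ⊤ := by
  set K := Subgroup.closure (Set.range fun k => (QuotientGroup.mk (t k) : Cfsg.PSU 4 F 3))
  have hmemK : ∀ k, QuotientGroup.mk (t k) ∈ K := fun k => Subgroup.subset_closure ⟨k, rfl⟩
  have hg := gens_ok
  simp only [Bool.and_eq_true, Bool.or_eq_true, beq_iff_eq, List.all_eq_true, List.mem_range] at hg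
  have hgen0 : InK K (vec w (gVecs.getD 0 0)) :=
    inK_of_gen hF hw (by rw [herm_vec hF hw, (hg.2 0 (by norm_num)).2]; simp [el])
      (ht 0).2.1 (ht 0).2.2 (ht 0).1 (hmemK 0)
  have hreach : ∀ s < 280, InK K (vec w (ordT.get s)) := by
    intro s
    induction s using Nat.strong_induction_on with
    | _ s ih =>
      intro hs
      have hb := of_allFrom_zero reach_ok hs
      simp only [reachOK, forceN_eq] at hb
      by_cases h0 : s = 0
      · subst h0
        simp only [beq_self_eq_true, cond_true] at hb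
        obtain ⟨c, hc, hce⟩ := sameLine_spec hF hw hb
        rw [show vec w (ordT.get 0) = c • vec w (gVecs.getD 0 0) from hce]
        exact inK_smul hF hw hc hgen0
      · rw [show (s == 0) = false by simpa using h0] at hb
        simp only [cond_false, Bool.and_eq_true, Nat.blt_eq, List.any_eq_true, List.all_eq_true,
          List.mem_range, beq_iff_eq, Bool.not_eq_true', beq_eq_false_iff_ne] at hb
        obtain ⟨⟨hlt, hk⟩, e, he, he0, heq⟩ := hb
        set k := parT.get s / 280
        have hv : vec w (ordT.get s) = el w e •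
            ((t ⟨k, hk⟩).1.1 *ᵥ vec w (ordT.get (parT.get s % 280))) := by
          rw [(ht ⟨k, hk⟩).1, unitaryTransvection_mulVec, ← vecF_tvC hF hw]
          funext m
          simp only [vec, vecF, Pi.smul_apply, smul_eq_mul, heq m.1 m.2, el_mulC hF hw]
        rw [hv]
        exact inK_smul hF hw (fun h => he0 (el_eq_zero hF hw he h))
          (inK_conj hF hw (hmemK _) (ih _ hlt (by omega)))
  have hTK : QuotientGroup.mk '' suTvSet 4 F 3 ⊆ (K : Set (Cfsg.PSU 4 F 3)) := by
    rintro _ ⟨A, ⟨x, c, hx, hA⟩, rfl⟩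
    by_cases hx0 : x = 0
    · have : A = 1 := SU_ext fun y => by
        rw [hA, unitaryTransvection_mulVec, hx0, smul_zero, add_zero, SU_one_mulVec]
      rw [this]
      exact K.one_mem
    obtain ⟨p, hp⟩ := exists_pairing_ne (q := 3) hF hx0
    have hc : c ^ 3 = -c := by
      have hpx : Cfsg.hermForm 4 F 3 p x = 1 := by rw [hermForm_symm hF 4 x p, hp, one_pow]
      have h := mem_SU_iff.1 A.2 p p
      rw [hA, unitaryTransvection_mulVec, hermForm_add_left, hermForm_add_right hF,
        hermForm_add_right hF, hermForm_smul_left, hermForm_smul_left, hermForm_smul_right,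
        hermForm_smul_right, hx, hp, hpx] at h
      have h2 : c + c ^ 3 = 0 := by linear_combination h
      exact eq_neg_of_add_eq_zero_right h2
    obtain ⟨v, hv, rfl⟩ := vec_surjective hF hw x
    have hb := of_allFrom_zero cover_ok hv
    have hv0 : (v == 0) = false := beq_eq_false_iff_ne.2 fun e => hx0 (e ▸ vec_zero hF hw)
    have hiso : hermC (coord v) (coord v) = 0 :=
      el_eq_zero hF hw (hermC_lt _ _) ((herm_vec hF hw v v).symm.trans hx)
    simp only [coverOK, forceN_eq, hiso, hv0, beq_self_eq_true, Bool.not_true, Bool.false_or,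
      Bool.and_eq_true, Nat.blt_eq] at hb
    obtain ⟨s, hs, hse⟩ := sameLine_spec hF hw hb.2
    have hin : InK K (vec w v) := by
      rw [show vec w v = s • vec w (ordT.get (posT.get v)) from hse]
      exact inK_smul hF hw hs (hreach _ hb.1)
    exact hin A c hc hA
  have htop := closure_suTvSet (n := 4) (q := 3) hF (by norm_num) (by norm_num)
  refine top_le_iff.1 fun q _ => ?_
  obtain ⟨A, rfl⟩ := QuotientGroup.mk_surjective q
  have hle : Subgroup.closure (suTvSet 4 F 3) ≤ K.comap (QuotientGroup.mk' _) :=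
    (Subgroup.closure_le _).2 fun A hA => hTK ⟨A, hA, rfl⟩
  exact hle (htop ▸ Subgroup.mem_top A)

theorem center_scalar {z : Cfsg.SU 4 F 3} (hz : z ∈ Subgroup.center (Cfsg.SU 4 F 3)) :
    ∃ a : F, ∀ x, z.1.1 *ᵥ x = a • x := by
  have h := center_SU_scalar hF ⟨z, hz⟩
  refine ⟨z.1.1 0 0, fun x => funext fun i => ?_⟩
  rw [Matrix.mulVec, dotProduct, Finset.sum_eq_single i, Pi.smul_apply, smul_eq_mul]
  · exact congrArg (· * x i) (h i 0).2
  · intro j _ hj
    rw [show z.1.1 i j = 0 from (h i j).1 (Ne.symm hj), zero_mul]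
  · simp

theorem not_twin_one {A : Cfsg.SU 4 F 3}
    (hA : A.1.1 = Cfsg.unitaryTransvection 4 3 (vec w (gVecs.getD 0 0)) (el w (gPar.getD 0 0))) :
    ¬ Twin w (1 : G0) (QuotientGroup.mk A : Cfsg.PSU 4 F 3) := by
  rintro ⟨M, hMA, hM⟩
  let x0 : leechLattice := ⟨vecK (keyT.get 0), mem_of_latA root_ok⟩
  have hx0 : sqNorm (x0 : GolayPt → ℤ) = 32 := by rw [sqNorm_eq_dotL]; exact root_norm.1
  obtain ⟨j, hj, ej, hj'⟩ := hM 0 (by norm_num) x0 hx0 root_norm.2
  rw [OneMemClass.coe_one, one_smul, show keyOf (x0 : GolayPt → ℤ) = keyT.get 0 from root_norm.2] at ej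
  have h0 := of_allFrom_zero key_zero_unique hj
  simp only [← ej, beq_self_eq_true, Bool.not_true, Bool.or_false, beq_iff_eq] at h0
  subst h0
  obtain ⟨a, happ⟩ := center_scalar hF hw (QuotientGroup.eq.1 hMA)
  have hf := first_ok
  simp only [Bool.and_eq_true, Bool.not_eq_true', beq_iff_eq, beq_eq_false_iff_ne] at hf
  have hperp : ∀ y ∈ line w 0, Cfsg.hermForm 4 F 3 y (vec w (base1 0)) = 0 := by
    intro y hy
    induction hy using Submodule.span_induction with
    | mem z hz' =>
      rcases hz' with rfl | rfl <;> rw [herm_vec hF hw]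
      · rw [hf.1.1]; simp [el]
      · rw [hf.1.2]; simp [el]
    | zero => exact hermForm_zero_left _
    | add p r _ _ hp hr => rw [hermForm_add_left, hp, hr, add_zero]
    | smul c p _ hp => rw [hermForm_smul_left, hp, mul_zero]
  have hmem : A.1.1 *ᵥ vec w (base1 0) ∈ line w 0 := by
    rw [show A = M * (M⁻¹ * A) from (mul_inv_cancel_left M A).symm, SU_mul_mulVec, happ]
    exact hj' _ (Submodule.smul_mem _ _ (Submodule.subset_span (by simp)))
  have h1 := hperp _ hmem
  rw [hA, unitaryTransvection_mulVec, ← vecF_tvC hF hw, show vec w (base1 0) = vecF w (coord (base1 0)) from rfl,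
    herm_vecF hF hw] at h1
  exact hf.2 (el_eq_zero hF hw (hermC_lt _ _) h1)

theorem card_psu : Nat.card (Cfsg.PSU 4 F 3) = 3265920 := by
  have h1 := card_SU_mul (q := 3) hF (n := 4) (by norm_num)
  have h2 := card_SU_eq_center_mul_PSU (F := F) (q := 3) 4
  rw [card_center_SU hF (by norm_num)] at h2
  rw [card_GU hF 4, h2] at h1
  simp [Finset.prod_range_succ, Nat.even_add_one, Nat.gcd] at h1
  omega

theorem iso_G0 : Nonempty (G0 ≃* Cfsg.PSU 4 F 3) := by
  have := co0_finite
  have hsimple := psu_isSimpleGroup (n := 4) hF (by norm_num) (by norm_num)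
  have hfinQ : Finite (Cfsg.PSU 4 F 3) := Nat.finite_of_card_ne_zero (by rw [card_psu hF hw]; norm_num)
  choose t ht using exists_gen hF hw
  exact nonempty_mulEquiv_of_twin (card_G0.trans (card_psu hF hw).symm) (Twin w) twin_one twin_mul sGen
    (fun k => QuotientGroup.mk (t k)) (fun k => twin_gen hF hw k (ht k).1) (closure_gens hF hw t ht)
    ⟨_, not_twin_one hF hw (ht 0).1⟩

end Model

end CfsgLib.Sporadic.ConwayPsu43
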