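import Cfsg.Agent.Lib.ClassicalGroups.UnitarySimple

/-! Vectors of four coordinates over the field with nine elements, coded by digits to base nine:
the digit `a + 3 b` stands for `a + b w`, where `w ^ 2 = -1`. -/

set_option autoImplicit false
set_option linter.unusedSectionVars false

namespace CfsgLib.Sporadic.ConwayPsu43

open Matrix CfsgLib.ClassicalGroups

/-- The sum of two digits. -/
noncomputable def addC (a b : ℕ) : ℕ := (a % 3 + b % 3) % 3 + 3 * ((a / 3 + b / 3) % 3)

/-- The product of two digits. -/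
noncomputable def mulC (a b : ℕ) : ℕ :=
  (a % 3 * (b % 3) + 2 * (a / 3 * (b / 3))) % 3 + 3 * ((a % 3 * (b / 3) + a / 3 * (b % 3)) % 3)

/-- The conjugate of a digit. -/
noncomputable def conjC (a : ℕ) : ℕ := a % 3 + 3 * (2 * (a / 3) % 3)

/-- The coordinate of a code. -/
noncomputable def coord (v i : ℕ) : ℕ := v / 9 ^ i % 9

/-- The form on codes. -/
noncomputable def hermC (u v : ℕ → ℕ) : ℕ :=
  addC (addC (addC (mulC (u 0) (conjC (v 0))) (mulC (u 1) (conjC (v 1)))) (mulC (u 2) (conjC (v 2))))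
    (mulC (u 3) (conjC (v 3)))

/-- The coordinates of an image under a transvection. -/
noncomputable def tvC (v c u i : ℕ) : ℕ :=
  addC (coord u i) (mulC (mulC c (hermC (coord u) (coord v))) (coord v i))

variable {F : Type*} [Field F] [Fintype F]

/-- The element of a digit. -/
def el (w : F) (n : ℕ) : F := ((n % 3 : ℕ) : F) + ((n / 3 : ℕ) : F) * w

/-- The vector of coordinate digits. -/
def vecF (w : F) (u : ℕ → ℕ) : Fin 4 → F := fun i => el w (u i.1)

/-- The vector of a code. -/
noncomputable def vec (w : F) (v : ℕ) : Fin 4 → F := vecF w (coord v)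

variable (hF : Fintype.card F = 3 ^ 2) {w : F} (hw : w ^ 2 = -1)
include hF hw

theorem charThree : CharP F 3 := charP_of_card_eq_prime_pow hF

theorem cast_mod (n : ℕ) : ((n % 3 : ℕ) : F) = (n : F) := by
  have := charThree hF hw
  exact (CharP.cast_eq_mod F 3 n).symm

theorem three_eq_zero : (3 : F) = 0 := by
  have := charThree hF hw
  exact_mod_cast CharP.cast_eq_zero F 3

theorem el_mk (a b : ℕ) : el w (a % 3 + 3 * (b % 3)) = (a : F) + (b : F) * w := by
  have h1 : (a % 3 + 3 * (b % 3)) % 3 = a % 3 := by omega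
  have h2 : (a % 3 + 3 * (b % 3)) / 3 = b % 3 := by omega
  rw [el, h1, h2, cast_mod hF hw, cast_mod hF hw]

theorem el_addC (a b : ℕ) : el w (addC a b) = el w a + el w b := by
  rw [addC, el_mk hF hw]
  simp only [el, Nat.cast_add]
  ring

theorem el_mulC (a b : ℕ) : el w (mulC a b) = el w a * el w b := by
  rw [mulC, el_mk hF hw]
  simp only [el, Nat.cast_add, Nat.cast_mul, Nat.cast_ofNat]
  linear_combination (((a / 3 : ℕ) : F) * ((b / 3 : ℕ) : F)) * (three_eq_zero hF hw - hw)

theorem el_conjC (a : ℕ) : el w (conjC a) = el w a ^ 3 := by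
  have h3 := three_eq_zero hF hw
  have h := charThree hF hw
  have : Fact (Nat.Prime 3) := ⟨Nat.prime_three⟩
  rw [conjC, el_mk hF hw]
  simp only [el, Nat.cast_mul, Nat.cast_ofNat]
  rw [add_pow_char, mul_pow]
  have e1 : ∀ x : ℕ, (x : F) ^ 3 = x := fun x => by
    rw [← frobenius_def, map_natCast]
  rw [e1, e1]
  rw [← cast_mod hF hw a]
  linear_combination (((a / 3 : ℕ) : F) * w) * (h3 - hw)

theorem el_eq_zero {n : ℕ} (hn : n < 9) (h : el w n = 0) : n = 0 := by
  have := charThree hF hw
  have e : ((n % 3 * (n % 3) + n / 3 * (n / 3) : ℕ) : F) = 0 := by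
    simp only [el] at h
    push_cast
    linear_combination (((n % 3 : ℕ) : F) - ((n / 3 : ℕ) : F) * w) * h + ((n / 3 : ℕ) : F) ^ 2 * hw
  rw [CharP.cast_eq_zero_iff F 3] at e
  interval_cases n <;> simp at e ⊢

theorem el_neg {n : ℕ} : el w (mulC 2 n) = -el w n := by
  rw [el_mulC hF hw]
  have h3 := three_eq_zero hF hw
  simp only [el]
  push_cast
  linear_combination (((n % 3 : ℕ) : F) + ((n / 3 : ℕ) : F) * w) * h3

theorem el_inj {a b : ℕ} (ha : a < 9) (hb : b < 9) (h : el w a = el w b) : a = b := by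
  have h0 := el_eq_zero hF hw (n := addC a (mulC 2 b)) (by unfold addC; omega)
    (by rw [el_addC hF hw, el_neg hF hw, h, add_neg_cancel])
  revert h0
  have : ∀ a < 9, ∀ b < 9, addC a (mulC 2 b) = 0 → a = b := by decide +kernel
  exact this a ha b hb

theorem el_surjective (x : F) : ∃ n < 9, el w n = x := by
  have hbij := (Fintype.bijective_iff_injective_and_card (fun n : Fin 9 => el w n.1)).2
    ⟨fun a b h => Fin.ext (el_inj hF hw a.2 b.2 h), by rw [Fintype.card_fin, hF]; norm_num⟩
  obtain ⟨n, hn⟩ := hbij.2 x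
  exact ⟨n.1, n.2, hn⟩

theorem vec_surjective (x : Fin 4 → F) : ∃ v < 6561, vec w v = x := by
  choose n hn hx using fun i => el_surjective hF hw (x i)
  have h0 := hn 0
  have h1 := hn 1
  have h2 := hn 2
  have h3 := hn 3
  refine ⟨n 0 + 9 * n 1 + 81 * n 2 + 729 * n 3, by omega, funext fun i => ?_⟩
  rw [← hx i]
  show el w (coord _ i.1) = el w (n i)
  congr 1
  match i with
  | 0 => simp only [coord]; norm_num; omega
  | 1 => simp only [coord]; norm_num; omega
  | 2 => simp only [coord]; norm_num; omega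
  | 3 => simp only [coord]; norm_num; omega

theorem vec_zero : vec w 0 = (0 : Fin 4 → F) := by
  funext i
  simp [vec, vecF, coord, el]

theorem herm_vecF (u v : ℕ → ℕ) :
    Cfsg.hermForm 4 F 3 (vecF w u) (vecF w v) = el w (hermC u v) := by
  simp only [Cfsg.hermForm, Fin.sum_univ_four, hermC, vecF, el_addC hF hw, el_mulC hF hw, el_conjC hF hw]
  rfl

theorem herm_vec (u v : ℕ) : Cfsg.hermForm 4 F 3 (vec w u) (vec w v) = el w (hermC (coord u) (coord v)) :=
  herm_vecF hF hw _ _

theorem vecF_tvC (v c u : ℕ) :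
    vecF w (tvC v c u) = vec w u + (el w c * Cfsg.hermForm 4 F 3 (vec w u) (vec w v)) • vec w v := by
  funext i
  simp only [vec, herm_vecF hF hw, vecF, tvC, el_addC hF hw, el_mulC hF hw, Pi.add_apply,
    Pi.smul_apply, smul_eq_mul]

theorem trace_zero_cases {c : F} (hc : c ^ 3 = -c) : c = 0 ∨ c = w ∨ c = -w := by
  have h : c * ((c - w) * (c + w)) = 0 := by linear_combination hc - c * hw
  rcases mul_eq_zero.1 h with h | h
  · exact Or.inl h
  · rcases mul_eq_zero.1 h with h | h
    · exact Or.inr (Or.inl (sub_eq_zero.1 h))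
    · exact Or.inr (Or.inr (eq_neg_of_add_eq_zero_left h))

end CfsgLib.Sporadic.ConwayPsu43
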