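import Cfsg.Agent.Lib.Sporadic.ConwayPsu43.Data
import Cfsg.Agent.Lib.Sporadic.ConwayPsu43.Field
import Cfsg.Agent.Lib.Golay.LeechOrbit.Configs

/-! Checks on the action of four automorphisms of the lattice on 112 vectors and their lines. -/

set_option autoImplicit false
set_option maxRecDepth 100000

namespace CfsgLib.Sporadic.ConwayPsu43

open Cfsg CfsgLib.Golay CfsgLib.Golay.LeechOrbit CfsgLib.Sporadic

/-- The first code of a line. -/
noncomputable def base1 (i : ℕ) : ℕ := lineT.get i % 6561

/-- The second code of a line. -/
noncomputable def base2 (i : ℕ) : ℕ := lineT.get i / 6561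

/-- Four coordinates of a combination of two codes. -/
noncomputable def combOK (a b s r : ℕ) (u : ℕ → ℕ) : Bool :=
  (List.range 4).all fun i => u i == addC (mulC s (coord a i)) (mulC r (coord b i))

/-- Membership in the span of two codes. -/
noncomputable def inSpan (a b : ℕ) (u : ℕ → ℕ) : Bool :=
  (List.range 9).any fun s => (List.range 9).any fun r => combOK a b s r u

/-- Equal up to a non-zero scalar. -/
noncomputable def sameLine (u : ℕ → ℕ) (v : ℕ) : Bool :=
  (List.range 9).any fun s => !(s == 0) && (List.range 4).all fun i => u i == mulC s (coord v i)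

/-- The image test of a generator at an index. -/
noncomputable def moveOK (k i : ℕ) : Bool :=
  forceN i fun i => forceN (keyT.get i) fun ki => forceN (succT.get (112 * k + i)) fun j =>
  forceN (keyT.get j) fun kj => forceN (base1 j) fun a => forceN (base2 j) fun b =>
  forceN (gVecs.getD k 0) fun v => forceN (gPar.getD k 0) fun c =>
    Nat.blt j 112 && decide (dotL (digitsF 24 ki) (gCols.getD k []) = 8 * ((kj : ℤ) - off)) &&
      inSpan a b (tvC v c (base1 i)) && inSpan a b (tvC v c (base2 i))

theorem moves_ok0 : allFrom 0 112 (moveOK 0) = true := by decide +kernel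
theorem moves_ok1 : allFrom 0 112 (moveOK 1) = true := by decide +kernel
theorem moves_ok2 : allFrom 0 112 (moveOK 2) = true := by decide +kernel
theorem moves_ok3 : allFrom 0 112 (moveOK 3) = true := by decide +kernel

theorem moves_ok : ∀ k < 4, ∀ i < 112, moveOK k i = true := by
  intro k hk i hi
  match k, hk with
  | 0, _ => exact of_allFrom_zero moves_ok0 hi
  | 1, _ => exact of_allFrom_zero moves_ok1 hi
  | 2, _ => exact of_allFrom_zero moves_ok2 hi
  | 3, _ => exact of_allFrom_zero moves_ok3 hi

theorem key_zero_unique : allFrom 0 112 (fun i => i == 0 || !(keyT.get i == keyT.get 0)) = true := by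
  decide +kernel

/-- The first line is isotropic and one generator moves it. -/
theorem first_ok : (hermC (coord (base1 0)) (coord (base1 0)) == 0 &&
    hermC (coord (base2 0)) (coord (base1 0)) == 0 &&
    !(hermC (tvC (gVecs.getD 0 0) (gPar.getD 0 0) (base1 0)) (coord (base1 0)) == 0)) = true := by
  decide +kernel

theorem hermC_lt (u v : ℕ → ℕ) : hermC u v < 9 := by
  unfold hermC
  generalize addC (addC (mulC (u 0) (conjC (v 0))) (mulC (u 1) (conjC (v 1)))) (mulC (u 2) (conjC (v 2))) = a
  generalize mulC (u 3) (conjC (v 3)) = b
  unfold addC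
  omega

theorem gens_ok : (gVecs.length == 4 && gWs.length == 4 &&
    (List.range 4).all fun k => (gPar.getD k 0 == 3 || gPar.getD k 0 == 6) &&
      hermC (coord (gVecs.getD k 0)) (coord (gVecs.getD k 0)) == 0) = true := by decide +kernel

/-- The reach test at an index. -/
noncomputable def reachOK (t : ℕ) : Bool :=
  forceN t fun t => forceN (ordT.get t) fun x =>
    bif t == 0 then sameLine (coord x) (gVecs.getD 0 0) else
      forceN (parT.get t / 280) fun k => forceN (parT.get t % 280) fun s =>
        Nat.blt s t && Nat.blt k 4 &&
          (List.range 9).any fun e => !(e == 0) &&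
            (List.range 4).all fun i =>
              coord x i == mulC e (tvC (gVecs.getD k 0) (gPar.getD k 0) (ordT.get s) i)

theorem reach_ok : allFrom 0 280 reachOK = true := by decide +kernel

/-- The cover test at a code. -/
noncomputable def coverOK (v : ℕ) : Bool :=
  forceN v fun v => v == 0 || !(hermC (coord v) (coord v) == 0) ||
    forceN (posT.get v) fun t => Nat.blt t 280 && sameLine (coord v) (ordT.get t)

theorem cover_ok : allFrom 0 6561 coverOK = true := by decide +kernel

theorem cols_g : gCols = gWs.map colsW := by
  rw [← colsE_eq]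
  decide +kernel

theorem fix_ok : fixB gWs [toL (Spor.leechV : GolayPt → ℤ), toL (negU : GolayPt → ℤ),
    toL (root275 : GolayPt → ℤ)] = true := by decide +kernel

theorem root_ok : latA (vecK (keyT.get 0)) = true := by decide +kernel

theorem root_norm : dotL (toL (vecK (keyT.get 0))) (toL (vecK (keyT.get 0))) = 32 ∧
    keyOf (vecK (keyT.get 0)) = keyT.get 0 := by decide +kernel

end CfsgLib.Sporadic.ConwayPsu43
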