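import Cfsg.Agent.Lib.Golay.LeechOrbit.Cert

/-! Generated: automorphisms of the lattice fixing three vectors, and the totally isotropic
lines attached to 112 minimal vectors on which they act as transvections. -/

set_option autoImplicit false
set_option maxRecDepth 20000

namespace CfsgLib.Sporadic.ConwayPsu43

open CfsgLib.Sporadic CfsgLib.Golay.LeechOrbit

/-- Words. -/
def gWs : List (List Letter) := [[.Ci, .Si, .Si, .Ci, .Ci, .S, .Ci, .Si, .Si, .Ci, .Ci, .S, .C, .Si, .Si, .Si, .X, .Ci, .X, .C, .X, .Ci, .X, .Ci, .X, .C, .X, .S, .Ci, .Ci, .S, .Ci, .Si, .Si, .Ci, .Ci, .S, .Ci, .Si, .Si, .Ci, .Ci, .S, .C, .Si, .Si, .Si, .X, .Ci, .X, .C, .X, .Ci, .X, .Ci, .X, .C, .X, .S, .Ci, .Ci, .S],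
  [.Si, .Si, .Ci, .Ci, .S, .C, .Si, .Si, .Si, .X, .Ci, .X, .C, .X, .Ci, .X, .Ci, .X, .C, .X, .S, .Ci, .Ci, .S, .Ci, .Si, .Si, .Ci, .Ci, .S, .Ci, .Si, .Si, .Ci, .Ci, .S, .C, .Si, .Si, .Si, .X, .Ci, .X, .C, .X, .Ci, .X, .Ci, .X, .C, .X, .S, .Ci, .Ci, .S, .Ci, .Si, .Si, .Ci, .Ci, .S, .Ci],
  [.C, .Si, .C, .C, .S, .S, .C, .Si, .Si, .Ci, .Ci, .S, .C, .Si, .Si, .Si, .X, .Ci, .X, .C, .X, .Ci, .X, .Ci, .X, .C, .X, .S, .Ci, .Ci, .S, .Ci, .Si, .Si, .Ci, .Ci, .S, .Ci, .Si, .Si, .Ci, .Ci, .S, .C, .Si, .Si, .Si, .X, .Ci, .X, .C, .X, .Ci, .X, .Ci, .X, .C, .X, .S, .Ci, .Ci, .S, .Ci, .Si, .Si, .Ci, .Ci, .S, .Ci, .Ci, .Si, .Si, .Ci, .Ci, .S, .Ci],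
  [.Si, .Si, .Ci, .Ci, .S, .C, .C, .Si, .Si, .Ci, .Ci, .S, .Ci, .Si, .Si, .Ci, .Ci, .S, .C, .Si, .Si, .Si, .X, .Ci, .X, .C, .X, .Ci, .X, .Ci, .X, .C, .X, .S, .Ci, .Ci, .S, .Ci, .Si, .Si, .Ci, .Ci, .S, .Ci, .Si, .Si, .Ci, .Ci, .S, .C, .Si, .Si, .Si, .X, .Ci, .X, .C, .X, .Ci, .X, .Ci, .X, .C, .X, .S, .Ci, .Ci, .S, .Ci, .Ci, .Ci, .Si, .C, .C, .S, .S]]

/-- Packed columns. -/
def gCols : List (List ℤ) := [[14527581569559177574151679701, 14527581569559177574151679821, -5279440095753998774863581423, 5279460239310297165498076399, 5206924616634673479145165039, 5279459059024925603543306479, 4046335833534053587390238959, -5279440169539779059822562543, 5279459054395220787557765359, 5284294757673683445674347759, 5202087806569514311944704239, 4041520200313081294975078639, 5284294762014023462310318319, 5279156753763905370246287599, -3964147762653378363819741423, -4041216787978392223832019183, 4041518945952564653006720239, 5283992530830391314895524079, -5201785575096666898618584303,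 5279139114084020785853173999, 5279460239597401366794014959, 5202068916797413100367319279, -5279458980319943766005715183, 25086499687572991222620295475],
  [14566417723659435976694886101, 14566417723659435976694886221, 5245458612796788283892894959, 5245760839639940226939146479, -5240603941653740372320375023, 5245458608454197015051571439, 5240622836019518152620708079, 5240622909518334421868810479, -4002681685029572661516243183, -4002682791816277453444025583, -5240604015439520657279356143, -5240622904888629607888113903, 5240925062573445486197412079, 5317994157343899646744924399, 4007499679433795184847032559, 5318296388816888345025121519, -5240621724313901529427677423, 5322828606261846176141742319, 5317975268184279188396380399, 4080054122687164532493701359, 5240621724603258080435686639, 5240905070897671502910525679, 4002985097364401888179589359, 25047663533472732820077089075],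
  [14525163130074094092799774421, 14525163130074094092799774541, 5281876318188599964322442479, 4043937385437648134358625519, 5281877498510000288802222319, -5281858609024862541174467823, 5281876317899243963079127279, -5199669288379598492276814063, 5281877503103676305756057839, 5281877429604860036515819759, 5204487356858948537929625839, 5204506246054598343044034799, -4039082866462220035336106223, 5276739563758557762849812719, 5277041799825213684146171119, 4043635228039937007243161839, 5281858535239082805971333359, -5204204014581750379970489583, -5281575193248980055496782063, 5281555201609234869237248239, 5277041795518650662567997679, -4043936278614914545411354863, 3966566211361833882026455279, 25088918127058074703972200755],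
  [14563848790880963115294322901, 14563848790880963115294323021, 5315726280057354593821069039, -4005250617808045522916806383, 5320544200962752049796943599, -5242869531542965012868959983, 5243191907148571566842908399, 5243173022006166373153165039, 5243172948220245318493606639, 5238356134678004642868170479, -5238053902951688740354707183, -5243191837667102469288677103, 4004949567233067984748613359, 5320563090122373057892912879, 5243190657094626740397739759, -4000397205655351012841557743, 5320260858685553891838333679, 5243190657381730941827863279, -5243191833073435246406209263, 5242889680018315422492331759, 5238356129794972624796848879, 4005251872168702904521003759, 4082623046244517156853173999, 25050232466251205681477652275]]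

/-- Transvection centres. -/
def gVecs : List ℕ := [2997, 3726, 2925, 5059]

/-- Transvection parameters. -/
def gPar : List ℕ := [3, 6, 6, 6]

/-- Part of `keyT`. -/
def keyT_p : Tr := .node (.node (.node (.node (.node (.node (.node (.leaf 0x577777777779977799979797) (.leaf 0x668868888866688886888886)) (.node (.leaf 0x579777979777797779977797) (.leaf 0x688868688886888668886886))) (.node (.node (.leaf 0x577797797797977997777797) (.leaf 0x686888688866868888888686)) (.leaf 0x597799777779777797797797))) (.node (.node (.node (.leaf 0x577779777797797797977997) (.leaf 0x686666888886886888888886)) (.node (.leaf 0x597777777777799777999797) (.leaf 0x688888666888868888866886))) (.node (.node (.leaf 0x577979977779797777779797) (.leaf 0x688686886688888688886886)) (.leaf 0x666688888688688888888686)))) (.node (.node (.node (.node (.leaf 0x577777797979777977799797) (.leaf 0x668888868888688688686886)) (.node (.leaf 0x579799777777777977979797) (.leaf 0x688886688888866688688886)))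 (.node (.node (.leaf 0x577977797777797799797797) (.leaf 0x688668688688868886888886)) (.leaf 0x599777777777977979797797))) (.node (.node (.node (.leaf 0x577779997777977777997797) (.leaf 0x686868886888668688888886)) (.node (.leaf 0x597779777997977777779797) (.leaf 0x688888868688868668888686))) (.node (.node (.leaf 0x579777777779799997777797) (.leaf 0x688688888888686666888886)) (.leaf 0x668668866888888868888886))))) (.node (.node (.node (.node (.node (.leaf 0x577777779799997777797797) (.leaf 0x668886886888686888868886)) (.node (.leaf 0x579797799777779777797797) (.leaf 0x688868886888886886686886))) (.node (.node (.leaf 0x577799777777999779777797) (.leaf 0x686888888686888686688886)) (.leaf 0x597977797779979777777797))) (.node (.node (.node (.leaf 0x577779779979779777977797) (.leaf 0x686688888888868868686886)) (.node (.leaf 0x597777779797779799777797) (.leaf 0x688888688668688688868886))) (.node (.node (.leaf 0x577997977777779797977797) (.leaf 0x688688868688886888668886))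 (.leaf 0x666886888868888668888886)))) (.node (.node (.node (.node (.leaf 0x577777997997799777777797) (.leaf 0x668888888688888866866886)) (.node (.leaf 0x579977777977779779779797) (.leaf 0x688886888668886886888686))) (.node (.node (.leaf 0x577977977797977779777997) (.leaf 0x688686688888888868868686)) (.leaf 0x599779977777779777777997))) (.node (.node (.node (.leaf 0x577797777997777779997797) (.leaf 0x686886866888888888688686)) (.node (.leaf 0x597797779777977777977997) (.leaf 0x688888888686666888886886))) (.node (.node (.leaf 0x579777797777997777779997) (.leaf 0x688866888688688868688886)) (.leaf 0x668688888886868688868886)))))) (.node (.node (.node (.node (.node (.node (.leaf 0x577777777977979797797997) (.leaf 0x668886668686888888888886)) (.node (.leaf 0x579779797799777779777797) (.leaf 0x688868886686888888868686))) (.node (.node (.leaf 0x577797977777797977797997) (.leaf 0x686888868886688868868886)) (.leaf 0x597977777777777997779997))) (.node (.node (.node (.leaf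 0x577779779777777779799997) (.leaf 0x686688886868888886868886)) (.node (.leaf 0x597777777979797779777997) (.leaf 0x688888668868888866688886))) (.node (.node (.leaf 0x577997779779777979777797) (.leaf 0x688688686886688888688886)) (.leaf 0x666868688888888888668886)))) (.node (.node (.node (.node (.leaf 0x577777979777979977779797) (.leaf 0x668888886668868888688886)) (.node (.leaf 0x579977777779777777997997) (.leaf 0x688886886886868866888886))) (.node (.node (.leaf 0x577977799797777777979797) (.leaf 0x688668888868888688688686)) (.leaf 0x599777797977777797977797))) (.node (.node (.node (.leaf 0x577797777799779777779997) (.leaf 0x686886688888688886886886)) (.node (.leaf 0x597779799777797977777797) (.leaf 0x688888886868688868886686))) (.node (.node (.leaf 0x579777779997777977777997) (.leaf 0x688866868888888686868886)) (.leaf 0x668688688868886888886886))))) (.node (.node (.node (.node (.node (.leaf 0x577777797777779979977997) (.leaf 0x668888686888888686888686)) (.node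 (.leaf 0x579797977979977777777797) (.leaf 0x688868888868866868868886))) (.node (.node (.leaf 0x577977777977997977977797) (.leaf 0x686888888888886688866686)) (.leaf 0x597977979977777777797797))) (.node (.node (.node (.leaf 0x577779977977777999777797) (.leaf 0x686868868668888888886886)) (.node (.leaf 0x597777977799777977977797) (.leaf 0x688888866866886688888886))) (.node (.node (.leaf 0x577999797977777777777997) (.leaf 0x688688868886888886886686)) (.leaf 0x666888868888866886888886)))) (.node (.node (.node (.node (.leaf 0x577777999779777797777997) (.leaf 0x668888888886886868688686)) (.node (.leaf 0x579979779777977797777797) (.leaf 0x688886888866888888666886))) (.node (.node (.leaf 0x577979777797779977797797) (.leaf 0x688686868868668888888886)) (.leaf 0x599997777797797777777797))) (.node (.node (.node (.leaf 0x577797779977797797779797) (.leaf 0x686888686688886868888886)) (.node (.leaf 0x597797997777777779779797) (.leaf 0x688888888888668886668686))) (.node (.node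 (.leaf 0x579777977797777797799797) (.leaf 0x688868668888686888888686)) (.leaf 0x668866888888868888886686))))))

/-- The keys of the 112 vectors. -/
def keyT : Tr := keyT_p

/-- Part of `lineT`. -/
def lineT_p : Tr := .node (.node (.node (.node (.node (.node (.node (.leaf 4850289) (.leaf 22743253)) (.node (.leaf 22920643) (.leaf 17431534))) (.node (.node (.leaf 35558380) (.leaf 40284010)) (.leaf 16895701))) (.node (.node (.node (.leaf 39572388) (.leaf 9753823)) (.node (.leaf 24868981) (.leaf 23746087))) (.node (.node (.leaf 42173938) (.leaf 41701654)) (.leaf 35027839)))) (.node (.node (.node (.node (.leaf 7982911) (.leaf 42052240)) (.node (.leaf 34492806) (.leaf 13534120))) (.node (.node (.leaf 25222113) (.leaf 40514932)) (.leaf 18848971))) (.node (.node (.node (.leaf 39041947) (.leaf 17311644)) (.node (.leaf 3257326) (.leaf 30356596))) (.node (.node (.leaf 9281278) (.leaf 484372)) (.leaf 40578670))))) (.node (.node (.node (.node (.node (.leaf 13769515) (.leaf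 42879727)) (.node (.leaf 32664384) (.leaf 33492754))) (.node (.node (.leaf 10161244) (.leaf 37858384)) (.leaf 23570578))) (.node (.node (.node (.leaf 19195984) (.leaf 26403093)) (.node (.leaf 41936535) (.leaf 9749944))) (.node (.node (.leaf 42109255) (.leaf 22744152)) (.leaf 34491673)))) (.node (.node (.node (.node (.leaf 8811001) (.leaf 30302578)) (.node (.leaf 33493069) (.leaf 40165507))) (.node (.node (.leaf 25402375) (.leaf 31128381)) (.leaf 12766483))) (.node (.node (.node (.leaf 9280720) (.leaf 27351307)) (.node (.leaf 37153486) (.leaf 11224369))) (.node (.node (.leaf 17312977) (.leaf 39570517)) (.leaf 7392223)))))) (.node (.node (.node (.node (.node (.node (.leaf 34255279) (.leaf 14479993)) (.node (.leaf 27765955) (.leaf 22567735))) (.node (.node (.leaf 41759388) (.leaf 13767409)) (.leaf 21150640))) (.node (.node (.node (.leaf 23568958) (.leaf 7865614)) (.node (.leaf 18489655) (.leaf 12644757))) (.node (.node (.leaf 22152574) (.leaf 21385810)) (.leaf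 3317068)))) (.node (.node (.node (.node (.leaf 23037733) (.leaf 20145267)) (.node (.leaf 27352387) (.leaf 14243761))) (.node (.node (.leaf 7332661) (.leaf 42112297)) (.leaf 13771405))) (.node (.node (.node (.leaf 25224661) (.leaf 31600846)) (.node (.leaf 27350119) (.leaf 29771434))) (.node (.node (.leaf 42114448) (.leaf 16896204)) (.leaf 32726098))))) (.node (.node (.node (.node (.node (.leaf 422479) (.leaf 12116790)) (.node (.leaf 39570877) (.leaf 25225668))) (.node (.node (.leaf 7391412) (.leaf 12646558)) (.leaf 422901))) (.node (.node (.node (.leaf 5148802) (.leaf 35555239)) (.node (.leaf 12111904) (.leaf 28354105))) (.node (.node (.leaf 30352366) (.leaf 37565569)) (.leaf 22566817)))) (.node (.node (.node (.node (.leaf 14479291) (.leaf 1955935)) (.node (.leaf 8809039) (.leaf 12114531))) (.node (.node (.leaf 32839291) (.leaf 8808733)) (.leaf 4853800))) (.node (.node (.node (.leaf 14892319) (.leaf 37564650)) (.node (.leaf 41878108) (.leaf 35734699))) (.node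 (.node (.leaf 31600701) (.leaf 37152379)) (.leaf 27822430))))))

/-- Bases of the lines, two codes each. -/
def lineT : Tr := lineT_p

/-- Part of `succT`. -/
def succT_p0 : Tr := .node (.node (.node (.node (.node (.node (.node (.node (.leaf 70) (.leaf 1)) (.node (.leaf 32) (.leaf 63))) (.node (.node (.leaf 48) (.leaf 73)) (.leaf 6))) (.node (.node (.node (.leaf 77) (.leaf 35)) (.node (.leaf 62) (.leaf 43))) (.node (.node (.leaf 15) (.leaf 94)) (.leaf 23)))) (.node (.node (.node (.node (.leaf 60) (.leaf 21)) (.node (.leaf 105) (.leaf 46))) (.node (.node (.leaf 35) (.leaf 6)) (.leaf 4))) (.node (.node (.node (.leaf 22) (.leaf 70)) (.node (.leaf 50) (.leaf 36))) (.node (.node (.leaf 81) (.leaf 27)) (.leaf 94))))) (.node (.node (.node (.node (.node (.leaf 8) (.leaf 59)) (.node (.leaf 104) (.leaf 51))) (.node (.node (.leaf 10) (.leaf 45)) (.leaf 9))) (.node (.node (.node (.leaf 83) (.leaf 69)) (.node (.leaf 54) (.leaf 71))) (.node (.node (.leaf 30) (.leaf 1)) (.leaf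 4)))) (.node (.node (.node (.node (.leaf 110) (.leaf 37)) (.node (.leaf 27) (.leaf 55))) (.node (.node (.leaf 57) (.leaf 34)) (.leaf 72))) (.node (.node (.node (.leaf 104) (.leaf 49)) (.node (.leaf 24) (.leaf 56))) (.node (.node (.leaf 99) (.leaf 35)) (.leaf 14)))))) (.node (.node (.node (.node (.node (.node (.leaf 108) (.leaf 2)) (.node (.leaf 10) (.leaf 66))) (.node (.node (.leaf 49) (.leaf 97)) (.leaf 47))) (.node (.node (.node (.leaf 88) (.leaf 53)) (.node (.leaf 15) (.leaf 32))) (.node (.node (.leaf 5) (.leaf 101)) (.leaf 108)))) (.node (.node (.node (.node (.leaf 59) (.leaf 82)) (.node (.leaf 103) (.leaf 80))) (.node (.node (.leaf 18) (.leaf 93)) (.leaf 56))) (.node (.node (.node (.leaf 58) (.leaf 24)) (.node (.leaf 84) (.leaf 97))) (.node (.node (.leaf 26) (.leaf 7)) (.leaf 101))))) (.node (.node (.node (.node (.node (.leaf 68) (.leaf 56)) (.node (.leaf 46) (.leaf 15))) (.node (.node (.leaf 39) (.leaf 8)) (.leaf 69))) (.node (.node (.node (.leaf 32)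 (.leaf 36)) (.node (.leaf 49) (.leaf 39))) (.node (.node (.leaf 103) (.leaf 58)) (.leaf 13)))) (.node (.node (.node (.node (.leaf 79) (.leaf 48)) (.node (.leaf 66) (.leaf 91))) (.node (.node (.leaf 42) (.leaf 29)) (.leaf 89))) (.node (.node (.node (.leaf 106) (.leaf 0)) (.node (.leaf 76) (.leaf 11))) (.node (.node (.leaf 38) (.leaf 28)) (.leaf 51))))))) (.node (.node (.node (.node (.node (.node (.node (.leaf 81) (.leaf 93)) (.node (.leaf 29) (.leaf 60))) (.node (.node (.leaf 84) (.leaf 47)) (.leaf 33))) (.node (.node (.node (.leaf 78) (.leaf 52)) (.node (.leaf 14) (.leaf 52))) (.node (.node (.leaf 9) (.leaf 4)) (.leaf 76)))) (.node (.node (.node (.node (.leaf 66) (.leaf 81)) (.node (.leaf 34) (.leaf 82))) (.node (.node (.leaf 11) (.leaf 38)) (.leaf 0))) (.node (.node (.node (.leaf 71) (.leaf 66)) (.node (.leaf 75) (.leaf 65))) (.node (.node (.leaf 36) (.leaf 99)) (.leaf 77))))) (.node (.node (.node (.node (.node (.leaf 55) (.leaf 64)) (.node (.leaf 96) (.leaf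 44))) (.node (.node (.leaf 38) (.leaf 19)) (.leaf 90))) (.node (.node (.node (.leaf 19) (.leaf 106)) (.node (.leaf 23) (.leaf 20))) (.node (.node (.leaf 16) (.leaf 74)) (.leaf 10)))) (.node (.node (.node (.node (.leaf 98) (.leaf 104)) (.node (.leaf 92) (.leaf 95))) (.node (.node (.leaf 3) (.leaf 10)) (.leaf 74))) (.node (.node (.node (.leaf 111) (.leaf 20)) (.node (.leaf 31) (.leaf 12))) (.node (.node (.leaf 101) (.leaf 109)) (.leaf 29)))))) (.node (.node (.node (.node (.node (.node (.leaf 95) (.leaf 91)) (.node (.leaf 95) (.leaf 61))) (.node (.node (.leaf 89) (.leaf 22)) (.leaf 17))) (.node (.node (.node (.leaf 102) (.leaf 41)) (.node (.leaf 100) (.leaf 24))) (.node (.node (.leaf 74) (.leaf 89)) (.leaf 87)))) (.node (.node (.node (.node (.leaf 64) (.leaf 15)) (.node (.leaf 77) (.leaf 9))) (.node (.node (.leaf 86) (.leaf 105)) (.leaf 18))) (.node (.node (.node (.leaf 20) (.leaf 75)) (.node (.leaf 52) (.leaf 22))) (.node (.node (.leaf 37) (.leaf 73)) (.leaf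 89))))) (.node (.node (.node (.node (.node (.leaf 93) (.leaf 57)) (.node (.leaf 25) (.leaf 45))) (.node (.node (.leaf 99) (.leaf 30)) (.leaf 48))) (.node (.node (.node (.leaf 6) (.leaf 110)) (.node (.leaf 94) (.leaf 107))) (.node (.node (.leaf 1) (.leaf 30)) (.leaf 84)))) (.node (.node (.node (.node (.leaf 56) (.leaf 28)) (.node (.leaf 71) (.leaf 78))) (.node (.node (.leaf 80) (.leaf 111)) (.leaf 85))) (.node (.node (.node (.leaf 28) (.leaf 107)) (.node (.leaf 8) (.leaf 110))) (.node (.node (.leaf 64) (.leaf 33)) (.leaf 78)))))))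

/-- Part of `succT`. -/
def succT_p1 : Tr := .node (.node (.node (.node (.node (.node (.node (.node (.leaf 24) (.leaf 40)) (.node (.leaf 39) (.leaf 88))) (.node (.node (.leaf 73) (.leaf 17)) (.leaf 98))) (.node (.node (.node (.leaf 65) (.leaf 98)) (.node (.leaf 83) (.leaf 48))) (.node (.node (.leaf 61) (.leaf 100)) (.leaf 111)))) (.node (.node (.node (.node (.leaf 76) (.leaf 71)) (.node (.leaf 87) (.leaf 47))) (.node (.node (.leaf 53) (.leaf 86)) (.leaf 41))) (.node (.node (.node (.leaf 12) (.leaf 61)) (.node (.leaf 45) (.leaf 17))) (.node (.node (.leaf 21) (.leaf 64)) (.leaf 100))))) (.node (.node (.node (.node (.node (.leaf 26) (.leaf 80)) (.node (.leaf 91) (.leaf 40))) (.node (.node (.leaf 33) (.leaf 83)) (.leaf 7))) (.node (.node (.node (.leaf 21) (.leaf 25)) (.node (.leaf 43) (.leaf 102))) (.node (.node (.leaf 47) (.leaf 76)) (.leaf 67)))) (.node (.node (.node (.node (.leaf 101) (.leaf 109)) (.node (.leaf 59) (.leaf 2))) (.node (.node (.leaf 0) (.leaf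 53)) (.leaf 16))) (.node (.node (.node (.leaf 36) (.leaf 102)) (.node (.leaf 22) (.leaf 0))) (.node (.node (.leaf 111) (.leaf 67)) (.leaf 96)))))) (.node (.node (.node (.node (.node (.node (.leaf 109) (.leaf 44)) (.node (.leaf 109) (.leaf 70))) (.node (.node (.leaf 69) (.leaf 90)) (.leaf 13))) (.node (.node (.node (.leaf 82) (.leaf 55)) (.node (.leaf 58) (.leaf 19))) (.node (.node (.leaf 85) (.leaf 54)) (.leaf 68)))) (.node (.node (.node (.node (.leaf 91) (.leaf 5)) (.node (.leaf 80) (.leaf 72))) (.node (.node (.leaf 25) (.leaf 41)) (.leaf 20))) (.node (.node (.node (.leaf 2) (.leaf 26)) (.node (.leaf 42) (.leaf 90))) (.node (.node (.leaf 55) (.leaf 62)) (.leaf 60))))) (.node (.node (.node (.node (.node (.leaf 97) (.leaf 58)) (.node (.leaf 102) (.leaf 21))) (.node (.node (.leaf 44) (.leaf 46)) (.leaf 79))) (.node (.node (.node (.leaf 14) (.leaf 99)) (.node (.leaf 5) (.leaf 18))) (.node (.node (.leaf 100) (.leaf 106)) (.leaf 95)))) (.node (.node (.node (.node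 (.leaf 40) (.leaf 50)) (.node (.leaf 35) (.leaf 108))) (.node (.node (.leaf 45) (.leaf 85)) (.leaf 1))) (.node (.node (.node (.leaf 13) (.leaf 11)) (.node (.leaf 12) (.leaf 59))) (.node (.node (.leaf 110) (.leaf 37)) (.leaf 85))))))) (.node (.node (.node (.node (.node (.node (.node (.leaf 67) (.leaf 42)) (.node (.leaf 19) (.leaf 104))) (.node (.node (.leaf 90) (.leaf 18)) (.leaf 60))) (.node (.node (.node (.leaf 94) (.leaf 43)) (.node (.leaf 67) (.leaf 23))) (.node (.node (.leaf 34) (.leaf 13)) (.leaf 105)))) (.node (.node (.node (.node (.leaf 92) (.leaf 62)) (.node (.leaf 65) (.leaf 5))) (.node (.node (.leaf 29) (.leaf 92)) (.leaf 78))) (.node (.node (.node (.leaf 51) (.leaf 3)) (.node (.leaf 3) (.leaf 8))) (.node (.node (.leaf 51) (.leaf 57)) (.leaf 74))))) (.node (.node (.node (.node (.node (.leaf 37) (.leaf 9)) (.node (.leaf 63) (.leaf 42))) (.node (.node (.leaf 27) (.leaf 16)) (.leaf 30))) (.node (.node (.node (.leaf 96) (.leaf 27)) (.node (.leaf 97) (.leaf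 25))) (.node (.node (.leaf 7) (.leaf 84)) (.leaf 34)))) (.node (.node (.node (.node (.leaf 31) (.leaf 33)) (.node (.leaf 107) (.leaf 14))) (.node (.node (.leaf 41) (.leaf 77)) (.leaf 57))) (.node (.node (.node (.leaf 54) (.leaf 7)) (.node (.leaf 44) (.leaf 16))) (.node (.node (.leaf 93) (.leaf 68)) (.leaf 86)))))) (.node (.node (.node (.node (.node (.node (.leaf 23) (.leaf 6)) (.node (.leaf 53) (.leaf 69))) (.node (.node (.leaf 87) (.leaf 103)) (.leaf 82))) (.node (.node (.node (.leaf 17) (.leaf 88)) (.node (.leaf 61) (.leaf 83))) (.node (.node (.leaf 4) (.leaf 87)) (.leaf 38)))) (.node (.node (.node (.node (.leaf 107) (.leaf 72)) (.node (.leaf 86) (.leaf 49))) (.node (.node (.leaf 50) (.leaf 96)) (.leaf 2))) (.node (.node (.node (.leaf 72) (.leaf 39)) (.node (.leaf 28) (.leaf 79))) (.node (.node (.leaf 108) (.leaf 3)) (.leaf 92))))) (.node (.node (.node (.node (.node (.leaf 43) (.leaf 65)) (.node (.leaf 106) (.leaf 81))) (.node (.node (.leaf 62) (.leaf 32))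 (.leaf 73))) (.node (.node (.node (.leaf 63) (.leaf 79)) (.node (.leaf 40) (.leaf 26))) (.node (.node (.leaf 52) (.leaf 103)) (.leaf 63)))) (.node (.node (.node (.node (.leaf 75) (.leaf 54)) (.node (.leaf 68) (.leaf 31))) (.node (.node (.leaf 46) (.leaf 50)) (.leaf 88))) (.node (.node (.node (.leaf 105) (.leaf 12)) (.node (.leaf 11) (.leaf 75))) (.node (.node (.leaf 70) (.leaf 98)) (.leaf 31)))))))

/-- The images, generator-major. -/
def succT : Tr := .node (succT_p0) (succT_p1)

/-- Part of `ordT`. -/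
def ordT_p : Tr := .node (.node (.node (.node (.node (.node (.node (.node (.node (.leaf 2997) (.leaf 6031)) (.leaf 2197)) (.node (.leaf 6247) (.leaf 1207))) (.node (.node (.leaf 172) (.leaf 3871)) (.node (.leaf 4429) (.leaf 2872)))) (.node (.node (.node (.node (.leaf 5112) (.leaf 3142)) (.leaf 6508)) (.node (.leaf 3997) (.leaf 46))) (.node (.node (.leaf 892) (.leaf 1819)) (.node (.leaf 1360) (.leaf 1117))))) (.node (.node (.node (.node (.node (.leaf 4626) (.leaf 4843)) (.leaf 5437)) (.node (.leaf 5518) (.leaf 4069))) (.node (.node (.leaf 1224) (.leaf 6499)) (.node (.leaf 973) (.leaf 3619)))) (.node (.node (.node (.leaf 576) (.leaf 3205)) (.node (.leaf 4744) (.leaf 6490))) (.node (.node (.leaf 649) (.leaf 3925)) (.node (.leaf 4456) (.leaf 5392)))))) (.node (.node (.node (.node (.node (.node (.leaf 3726) (.leaf 6139)) (.leaf 6454)) (.node (.leaf 6535) (.leaf 5230))) (.node (.node (.leaf 2358) (.leaf 6292)) (.node (.leaf 5986) (.leaf 2143)))) (.node (.node (.node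 (.node (.leaf 3439) (.leaf 2170)) (.leaf 4240)) (.node (.leaf 3349) (.leaf 5086))) (.node (.node (.leaf 5563) (.leaf 2674)) (.node (.leaf 3574) (.leaf 2818))))) (.node (.node (.node (.node (.node (.leaf 5221) (.leaf 4321)) (.leaf 3934)) (.node (.leaf 6382) (.leaf 5248))) (.node (.node (.leaf 109) (.leaf 1936)) (.node (.leaf 3988) (.leaf 1477)))) (.node (.node (.node (.leaf 1171) (.leaf 5419)) (.node (.leaf 406) (.leaf 2638))) (.node (.node (.leaf 981) (.leaf 2431)) (.node (.leaf 1468) (.leaf 3952))))))) (.node (.node (.node (.node (.node (.node (.node (.leaf 1953) (.leaf 3799)) (.leaf 6058)) (.node (.leaf 3654) (.leaf 6355))) (.node (.node (.leaf 900) (.leaf 3376)) (.node (.leaf 5446) (.leaf 2215)))) (.node (.node (.node (.node (.leaf 4545) (.leaf 64)) (.leaf 1414)) (.node (.leaf 3034) (.leaf 1369))) (.node (.node (.leaf 4861) (.leaf 4618)) (.node (.leaf 4222) (.leaf 217))))) (.node (.node (.node (.node (.node (.leaf 3961) (.leaf 1423)) (.leaf 5680)) (.node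 (.leaf 3223) (.leaf 3979))) (.node (.node (.leaf 2682) (.leaf 4231)) (.node (.leaf 2242) (.leaf 4267)))) (.node (.node (.node (.leaf 2827) (.leaf 4078)) (.node (.leaf 568) (.leaf 3043))) (.node (.node (.leaf 2656) (.leaf 5311)) (.node (.leaf 541) (.leaf 5104)))))) (.node (.node (.node (.node (.node (.node (.leaf 1548) (.leaf 2908)) (.leaf 1927)) (.node (.leaf 3250) (.leaf 5806))) (.node (.node (.leaf 4303) (.leaf 2071)) (.node (.leaf 2557) (.leaf 6067)))) (.node (.node (.node (.node (.leaf 657) (.leaf 4735)) (.leaf 5257)) (.node (.leaf 1342) (.leaf 262))) (.node (.node (.leaf 1126) (.leaf 1540)) (.node (.leaf 2152) (.leaf 4168))))) (.node (.node (.node (.node (.node (.leaf 3844) (.leaf 4816)) (.leaf 5536)) (.node (.leaf 3124) (.leaf 2575))) (.node (.node (.leaf 6364) (.leaf 3061)) (.node (.leaf 2179) (.leaf 505)))) (.node (.node (.node (.leaf 333) (.leaf 4204)) (.node (.leaf 136) (.leaf 4978))) (.node (.node (.leaf 5329) (.leaf 3448)) (.node (.leaf 1090) (.leaf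 3502)))))))) (.node (.node (.node (.node (.node (.node (.node (.node (.leaf 5184) (.leaf 5977)) (.leaf 5005)) (.node (.leaf 5635) (.leaf 739))) (.node (.node (.leaf 819) (.leaf 5482)) (.node (.leaf 298) (.leaf 190)))) (.node (.node (.node (.node (.leaf 414) (.leaf 4177)) (.leaf 6184)) (.node (.leaf 3511) (.leaf 4195))) (.node (.node (.leaf 3070) (.leaf 3853)) (.node (.leaf 4060) (.leaf 2791))))) (.node (.node (.node (.node (.node (.leaf 2439) (.leaf 2098)) (.leaf 3790)) (.node (.leaf 1513) (.leaf 2206))) (.node (.node (.leaf 4762) (.leaf 3268)) (.node (.leaf 2350) (.leaf 2089)))) (.node (.node (.node (.leaf 4024) (.leaf 2881)) (.node (.leaf 3646) (.leaf 4771))) (.node (.node (.leaf 5833) (.leaf 5527)) (.node (.leaf 1855) (.leaf 325)))))) (.node (.node (.node (.node (.node (.node (.leaf 5913) (.leaf 5626)) (.leaf 3259)) (.node (.leaf 6166) (.leaf 2665))) (.node (.node (.leaf 5841) (.leaf 6148)) (.node (.leaf 5302) (.leaf 3475)))) (.node (.node (.node (.node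 (.leaf 2925) (.leaf 4987)) (.leaf 1198)) (.node (.leaf 3772) (.leaf 4105))) (.node (.node (.leaf 748) (.leaf 3232)) (.node (.leaf 4825) (.leaf 2629))))) (.node (.node (.node (.node (.node (.leaf 1629) (.leaf 73)) (.leaf 5779)) (.node (.leaf 1099) (.leaf 5950))) (.node (.node (.leaf 757) (.leaf 5662)) (.node (.leaf 6265) (.leaf 181)))) (.node (.node (.node (.leaf 2548) (.leaf 1216)) (.node (.leaf 5014) (.leaf 1486))) (.node (.node (.leaf 4852) (.leaf 2899)) (.node (.leaf 91) (.leaf 5653))))))) (.node (.node (.node (.node (.node (.node (.node (.leaf 6112) (.leaf 4312)) (.leaf 4348)) (.node (.leaf 2917) (.leaf 1621))) (.node (.node (.leaf 4869) (.leaf 37)) (.node (.leaf 3340) (.leaf 100)))) (.node (.node (.node (.node (.leaf 5698) (.leaf 6175)) (.leaf 3592)) (.node (.leaf 5455) (.leaf 6211))) (.node (.node (.leaf 5725) (.leaf 3466)) (.node (.leaf 5095) (.leaf 3196))))) (.node (.node (.node (.node (.node (.leaf 5059) (.leaf 1900)) (.leaf 5959)) (.node (.leaf 4384)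 (.leaf 3493))) (.node (.node (.leaf 2800) (.leaf 5689)) (.node (.leaf 5410) (.leaf 6121)))) (.node (.node (.node (.leaf 811) (.leaf 6256)) (.node (.leaf 1450) (.leaf 271))) (.node (.node (.leaf 3295) (.leaf 5068)) (.node (.leaf 5770) (.leaf 1180)))))) (.node (.node (.node (.node (.node (.node (.leaf 2062) (.leaf 1828)) (.leaf 6409)) (.node (.leaf 1441) (.leaf 6391))) (.node (.node (.leaf 2277) (.leaf 3583)) (.node (.leaf 2269) (.leaf 3880)))) (.node (.node (.node (.node (.leaf 1702) (.leaf 6040)) (.leaf 1909)) (.node (.leaf 6427) (.leaf 2584))) (.node (.node (.leaf 3151) (.leaf 1846)) (.node (.leaf 1945) (.leaf 5338))))) (.node (.node (.node (.node (.node (.leaf 1710) (.leaf 3115)) (.leaf 6418)) (.node (.leaf 514) (.leaf 3331))) (.node (.node (.leaf 4402) (.leaf 1333)) (.node (.leaf 4537) (.leaf 4393)))) (.node (.node (.node (.leaf 4464) (.leaf 3538)) (.node (.leaf 784) (.leaf 5383))) (.node (.node (.leaf 5761) (.leaf 496)) (.node (.leaf 253) (.leaf 3763))))))))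

/-- Isotropic points in the order reached. -/
def ordT : Tr := ordT_p

/-- Part of `parT`. -/
def parT_p : Tr := .node (.node (.node (.node (.node (.node (.node (.node (.node (.leaf 0) (.leaf 755)) (.leaf 350)) (.node (.leaf 312) (.leaf 395))) (.node (.node (.leaf 853) (.leaf 934)) (.node (.leaf 52) (.leaf 986)))) (.node (.node (.node (.node (.leaf 6) (.leaf 790)) (.leaf 81)) (.node (.leaf 44) (.leaf 688))) (.node (.node (.leaf 303) (.leaf 941)) (.node (.leaf 62) (.leaf 729))))) (.node (.node (.node (.node (.node (.leaf 2) (.leaf 773)) (.leaf 355)) (.node (.leaf 879) (.leaf 123))) (.node (.node (.leaf 297) (.leaf 378)) (.node (.leaf 57) (.leaf 161)))) (.node (.node (.node (.leaf 9) (.leaf 86)) (.node (.leaf 887) (.leaf 416))) (.node (.node (.leaf 27) (.leaf 667)) (.node (.leaf 347) (.leaf 738)))))) (.node (.node (.node (.node (.node (.node (.leaf 1) (.leaf 204)) (.leaf 353)) (.node (.leaf 877) (.leaf 680))) (.node (.node (.leaf 16) (.leaf 97)) (.node (.leaf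 54) (.leaf 713)))) (.node (.node (.node (.node (.leaf 847) (.leaf 264)) (.leaf 84)) (.node (.leaf 325) (.leaf 691))) (.node (.node (.leaf 305) (.leaf 104)) (.node (.leaf 344) (.leaf 735))))) (.node (.node (.node (.node (.node (.leaf 843) (.leaf 221)) (.leaf 358)) (.node (.leaf 882) (.leaf 685))) (.node (.node (.leaf 19) (.leaf 659)) (.node (.leaf 619) (.leaf 723)))) (.node (.node (.node (.leaf 291) (.leaf 371)) (.node (.leaf 50) (.leaf 702))) (.node (.node (.leaf 590) (.leaf 111)) (.node (.leaf 69) (.leaf 748))))))) (.node (.node (.node (.node (.node (.node (.node (.leaf 560) (.leaf 199)) (.leaf 912)) (.node (.leaf 34) (.leaf 679))) (.node (.node (.leaf 295) (.leaf 375)) (.node (.leaf 53) (.leaf 148)))) (.node (.node (.node (.node (.leaf 566) (.leaf 799)) (.leaf 362)) (.node (.leaf 604) (.leaf 689))) (.node (.node (.leaf 864) (.leaf 383)) (.node (.leaf 343) (.leaf 1013))))) (.node (.node (.node (.node (.node (.leaf 842) (.leaf 498)) (.leaf 916)) (.node (.leaf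 321) (.leaf 125))) (.node (.node (.leaf 298) (.leaf 99)) (.node (.leaf 617) (.leaf 162)))) (.node (.node (.node (.leaf 290) (.leaf 367)) (.node (.leaf 328) (.leaf 697))) (.node (.node (.leaf 588) (.leaf 949)) (.node (.leaf 68) (.leaf 182)))))) (.node (.node (.node (.node (.node (.node (.leaf 561) (.leaf 490)) (.leaf 354)) (.node (.leaf 318) (.leaf 402))) (.node (.node (.leaf 856) (.leaf 937)) (.node (.leaf 895) (.leaf 438)))) (.node (.node (.node (.node (.leaf 288) (.leaf 547)) (.leaf 924)) (.node (.leaf 326) (.leaf 133))) (.node (.node (.leaf 26) (.leaf 105)) (.node (.leaf 906) (.leaf 456))))) (.node (.node (.node (.node (.node (.leaf 844) (.leaf 1062)) (.leaf 360)) (.node (.leaf 323) (.leaf 686))) (.node (.node (.leaf 859) (.leaf 660)) (.node (.leaf 61) (.leaf 168)))) (.node (.node (.node (.leaf 13) (.leaf 93)) (.node (.leaf 51) (.leaf 146))) (.node (.node (.leaf 871) (.leaf 953)) (.node (.leaf 629) (.leaf 1032)))))))) (.node (.node (.node (.node (.node (.node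 (.node (.node (.leaf 280) (.leaf 756)) (.leaf 71)) (.node (.leaf 873) (.leaf 116))) (.node (.node (.leaf 15) (.leaf 95)) (.node (.leaf 332) (.leaf 427)))) (.node (.node (.node (.node (.leaf 286) (.leaf 798)) (.leaf 361)) (.node (.leaf 324) (.leaf 129))) (.node (.node (.leaf 863) (.leaf 102)) (.node (.leaf 63) (.leaf 730))))) (.node (.node (.node (.node (.node (.leaf 282) (.leaf 1053)) (.leaf 76)) (.node (.leaf 880) (.leaf 684))) (.node (.node (.leaf 857) (.leaf 658)) (.node (.leaf 337) (.leaf 1001)))) (.node (.node (.node (.leaf 849) (.leaf 366)) (.node (.leaf 48) (.leaf 696))) (.node (.node (.leaf 307) (.leaf 388)) (.node (.leaf 907) (.leaf 460)))))) (.node (.node (.node (.node (.node (.node (.leaf 281) (.leaf 485)) (.leaf 913)) (.node (.leaf 38) (.leaf 121))) (.node (.node (.leaf 576) (.leaf 657)) (.node (.leaf 615) (.leaf 717)))) (.node (.node (.node (.node (.leaf 8) (.leaf 1104)) (.leaf 644)) (.node (.leaf 46) (.leaf 412))) (.node (.node (.leaf 865) (.leaf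 664)) (.node (.leaf 345) (.leaf 176))))) (.node (.node (.node (.node (.node (.leaf 564) (.leaf 781)) (.leaf 359)) (.node (.leaf 43) (.leaf 126))) (.node (.node (.leaf 299) (.leaf 380)) (.node (.leaf 900) (.leaf 447)))) (.node (.node (.node (.leaf 292) (.leaf 372)) (.node (.leaf 890) (.leaf 145))) (.node (.node (.leaf 870) (.leaf 392)) (.node (.leaf 349) (.leaf 751))))))) (.node (.node (.node (.node (.node (.node (.node (.leaf 840) (.leaf 481)) (.leaf 73)) (.node (.leaf 876) (.leaf 400))) (.node (.node (.leaf 575) (.leaf 655)) (.node (.leaf 333) (.leaf 989)))) (.node (.node (.node (.node (.leaf 846) (.leaf 1091)) (.leaf 83)) (.node (.leaf 45) (.leaf 131))) (.node (.node (.leaf 25) (.leaf 943)) (.node (.leaf 623) (.leaf 175))))) (.node (.node (.node (.node (.node (.leaf 3) (.leaf 780)) (.leaf 77)) (.node (.leaf 881) (.leaf 405))) (.node (.node (.leaf 858) (.leaf 379)) (.node (.leaf 58) (.leaf 1002)))) (.node (.node (.node (.leaf 850) (.leaf 930)) (.node (.leaf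 329) (.leaf 422))) (.node (.node (.leaf 589) (.leaf 670)) (.node (.leaf 908) (.leaf 467)))))) (.node (.node (.node (.node (.node (.node (.leaf 841) (.leaf 771)) (.leaf 75)) (.node (.leaf 878) (.leaf 682))) (.node (.node (.leaf 17) (.leaf 98)) (.node (.leaf 336) (.leaf 999)))) (.node (.node (.node (.node (.leaf 848) (.leaf 831)) (.leaf 85)) (.node (.leaf 47) (.leaf 974))) (.node (.node (.leaf 306) (.leaf 107)) (.node (.leaf 67) (.leaf 737))))) (.node (.node (.node (.node (.node (.leaf 565) (.leaf 785)) (.leaf 920)) (.node (.leaf 883) (.leaf 128))) (.node (.node (.leaf 862) (.leaf 101)) (.node (.leaf 901) (.leaf 448)))) (.node (.node (.node (.leaf 573) (.leaf 374)) (.node (.leaf 331) (.leaf 426))) (.node (.node (.leaf 32) (.leaf 394)) (.node (.leaf 70) (.leaf 194))))))))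

/-- Where each point comes from. -/
def parT : Tr := parT_p

/-- Part of `posT`. -/
def posT_p00000 : Tr := .node (.node (.node (.node (.node (.node (.node (.node (.leaf 0) (.leaf 0)) (.node (.leaf 230) (.leaf 101))) (.node (.node (.leaf 143) (.leaf 0)) (.leaf 65))) (.node (.node (.node (.leaf 0) (.leaf 0)) (.leaf 0)) (.node (.node (.leaf 0) (.leaf 0)) (.leaf 69)))) (.node (.node (.node (.node (.leaf 0) (.leaf 0)) (.node (.leaf 0) (.leaf 0))) (.node (.node (.leaf 0) (.leaf 0)) (.leaf 105))) (.node (.node (.node (.leaf 0) (.leaf 0)) (.leaf 181)) (.node (.node (.leaf 0) (.leaf 0)) (.leaf 0))))) (.node (.node (.node (.node (.node (.leaf 0) (.leaf 232)) (.node (.leaf 0) (.leaf 0))) (.node (.node (.leaf 0) (.leaf 204)) (.leaf 0))) (.node (.node (.node (.leaf 0) (.leaf 262)) (.leaf 0)) (.node (.node (.leaf 200) (.leaf 0)) (.leaf 106)))) (.node (.node (.node (.node (.leaf 0) (.leaf 0)) (.node (.leaf 50) (.leaf 0))) (.node (.node (.leaf 231) (.leaf 0)) (.leaf 0)))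 (.node (.node (.node (.leaf 0) (.leaf 54)) (.leaf 0)) (.node (.node (.leaf 0) (.leaf 233)) (.leaf 0)))))) (.node (.node (.node (.node (.node (.node (.leaf 274) (.leaf 0)) (.node (.leaf 0) (.leaf 0))) (.node (.node (.leaf 101) (.leaf 1)) (.leaf 175))) (.node (.node (.node (.leaf 24) (.leaf 0)) (.leaf 85)) (.node (.node (.leaf 0) (.leaf 0)) (.leaf 67)))) (.node (.node (.node (.node (.leaf 0) (.leaf 0)) (.node (.leaf 0) (.leaf 0))) (.node (.node (.leaf 11) (.leaf 0)) (.leaf 0))) (.node (.node (.node (.leaf 0) (.leaf 171)) (.leaf 0)) (.node (.node (.leaf 146) (.leaf 209)) (.leaf 265))))) (.node (.node (.node (.node (.node (.leaf 127) (.leaf 0)) (.node (.leaf 0) (.leaf 0))) (.node (.node (.leaf 157) (.leaf 137)) (.leaf 213))) (.node (.node (.node (.leaf 0) (.leaf 0)) (.leaf 52)) (.node (.node (.leaf 39) (.leaf 0)) (.leaf 0)))) (.node (.node (.node (.node (.leaf 225) (.leaf 0)) (.leaf 0)) (.node (.node (.leaf 0) (.leaf 116)) (.leaf 0))) (.node (.node (.node (.leaf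 0) (.leaf 209)) (.leaf 0)) (.node (.node (.leaf 136) (.leaf 0)) (.leaf 15))))))) (.node (.node (.node (.node (.node (.node (.node (.leaf 208) (.leaf 0)) (.node (.leaf 0) (.leaf 116))) (.node (.node (.leaf 0) (.leaf 47)) (.leaf 151))) (.node (.node (.node (.leaf 0) (.leaf 0)) (.leaf 4)) (.node (.node (.leaf 0) (.leaf 279)) (.leaf 0)))) (.node (.node (.node (.node (.leaf 17) (.leaf 75)) (.node (.leaf 108) (.leaf 98))) (.node (.node (.leaf 100) (.leaf 215)) (.leaf 0))) (.node (.node (.node (.leaf 0) (.leaf 0)) (.leaf 279)) (.node (.node (.leaf 117) (.leaf 0)) (.leaf 196))))) (.node (.node (.node (.node (.node (.leaf 0) (.leaf 0)) (.node (.leaf 45) (.leaf 0))) (.node (.node (.leaf 0) (.leaf 0)) (.leaf 181))) (.node (.node (.node (.leaf 0) (.leaf 0)) (.leaf 0)) (.node (.node (.leaf 171) (.leaf 0)) (.leaf 0)))) (.node (.node (.node (.node (.leaf 0) (.leaf 0)) (.node (.leaf 0) (.leaf 0))) (.node (.node (.leaf 0) (.leaf 142)) (.leaf 111))) (.node (.node (.node (.leaf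 0) (.leaf 0)) (.leaf 0)) (.node (.node (.leaf 0) (.leaf 0)) (.leaf 0)))))) (.node (.node (.node (.node (.node (.node (.leaf 219) (.leaf 151)) (.node (.leaf 54) (.leaf 0))) (.node (.node (.leaf 0) (.leaf 263)) (.leaf 0))) (.node (.node (.node (.leaf 242) (.leaf 0)) (.leaf 58)) (.node (.node (.leaf 0) (.leaf 0)) (.leaf 0)))) (.node (.node (.node (.node (.leaf 0) (.leaf 0)) (.node (.leaf 0) (.leaf 0))) (.node (.node (.leaf 0) (.leaf 2)) (.leaf 240))) (.node (.node (.node (.leaf 9) (.leaf 0)) (.leaf 0)) (.node (.node (.leaf 271) (.leaf 0)) (.leaf 82))))) (.node (.node (.node (.node (.node (.leaf 0) (.leaf 0)) (.node (.leaf 0) (.leaf 0))) (.node (.node (.leaf 0) (.leaf 0)) (.leaf 144))) (.node (.node (.node (.leaf 57) (.leaf 0)) (.leaf 0)) (.node (.node (.leaf 0) (.leaf 0)) (.leaf 0)))) (.node (.node (.node (.node (.leaf 0) (.leaf 203)) (.leaf 272)) (.node (.node (.leaf 0) (.leaf 0)) (.leaf 0))) (.node (.node (.node (.leaf 0) (.leaf 172)) (.leaf 0)) (.node (.node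 (.leaf 0) (.leaf 3)) (.leaf 0)))))))

/-- Part of `posT`. -/
def posT_p00001 : Tr := .node (.node (.node (.node (.node (.node (.node (.node (.leaf 269) (.leaf 0)) (.node (.leaf 189) (.leaf 182))) (.node (.node (.leaf 99) (.leaf 0)) (.leaf 0))) (.node (.node (.node (.leaf 0) (.leaf 0)) (.leaf 187)) (.node (.node (.leaf 0) (.leaf 233)) (.leaf 34)))) (.node (.node (.node (.node (.leaf 122) (.leaf 0)) (.node (.leaf 123) (.leaf 0))) (.node (.node (.leaf 5) (.leaf 248)) (.leaf 0))) (.node (.node (.node (.leaf 95) (.leaf 0)) (.leaf 183)) (.node (.node (.leaf 177) (.leaf 0)) (.leaf 0))))) (.node (.node (.node (.node (.node (.leaf 22) (.leaf 148)) (.node (.leaf 89) (.leaf 0))) (.node (.node (.leaf 130) (.leaf 0)) (.leaf 0))) (.node (.node (.node (.leaf 0) (.leaf 0)) (.leaf 0)) (.node (.node (.leaf 0) (.leaf 0)) (.leaf 0)))) (.node (.node (.node (.node (.leaf 227) (.leaf 161)) (.node (.leaf 35) (.leaf 0))) (.node (.node (.leaf 183) (.leaf 211)) (.leaf 0))) (.node (.node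 (.node (.leaf 0) (.leaf 0)) (.leaf 236)) (.node (.node (.leaf 172) (.leaf 49)) (.leaf 109)))))) (.node (.node (.node (.node (.node (.node (.leaf 0) (.leaf 0)) (.node (.leaf 62) (.leaf 0))) (.node (.node (.leaf 197) (.leaf 91)) (.leaf 205))) (.node (.node (.node (.leaf 0) (.leaf 145)) (.leaf 126)) (.node (.node (.leaf 145) (.leaf 0)) (.leaf 0)))) (.node (.node (.node (.node (.leaf 0) (.leaf 0)) (.node (.leaf 0) (.leaf 0))) (.node (.node (.leaf 112) (.leaf 131)) (.leaf 0))) (.node (.node (.node (.leaf 0) (.leaf 0)) (.leaf 65)) (.node (.node (.leaf 0) (.leaf 0)) (.leaf 251))))) (.node (.node (.node (.node (.node (.leaf 0) (.leaf 98)) (.node (.leaf 0) (.leaf 264))) (.node (.node (.leaf 0) (.leaf 0)) (.leaf 0))) (.node (.node (.node (.leaf 0) (.leaf 270)) (.leaf 14)) (.node (.node (.leaf 81) (.leaf 0)) (.leaf 229)))) (.node (.node (.node (.node (.leaf 0) (.leaf 0)) (.leaf 0)) (.node (.node (.leaf 128) (.leaf 0)) (.leaf 0))) (.node (.node (.node (.leaf 0) (.leaf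 0)) (.leaf 0)) (.node (.node (.leaf 0) (.leaf 0)) (.leaf 0))))))) (.node (.node (.node (.node (.node (.node (.node (.leaf 163) (.leaf 102)) (.node (.leaf 0) (.leaf 6))) (.node (.node (.leaf 0) (.leaf 0)) (.leaf 273))) (.node (.node (.node (.leaf 0) (.leaf 0)) (.leaf 247)) (.node (.node (.leaf 0) (.leaf 138)) (.leaf 0)))) (.node (.node (.node (.node (.leaf 0) (.leaf 0)) (.node (.leaf 104) (.leaf 0))) (.node (.node (.leaf 78) (.leaf 272)) (.leaf 162))) (.node (.node (.node (.leaf 188) (.leaf 200)) (.leaf 0)) (.node (.node (.leaf 12) (.leaf 215)) (.leaf 0))))) (.node (.node (.node (.node (.node (.leaf 0) (.leaf 69)) (.node (.leaf 0) (.leaf 0))) (.node (.node (.leaf 217) (.leaf 93)) (.leaf 195))) (.node (.node (.node (.leaf 32) (.leaf 0)) (.leaf 0)) (.node (.node (.leaf 0) (.leaf 155)) (.leaf 276)))) (.node (.node (.node (.node (.leaf 30) (.leaf 0)) (.leaf 113)) (.node (.node (.leaf 0) (.leaf 0)) (.leaf 141))) (.node (.node (.node (.leaf 52) (.leaf 0)) (.leaf 53))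 (.node (.node (.leaf 0) (.leaf 0)) (.leaf 0)))))) (.node (.node (.node (.node (.node (.node (.leaf 0) (.leaf 0)) (.node (.leaf 0) (.leaf 155))) (.node (.node (.leaf 0) (.leaf 194)) (.leaf 241))) (.node (.node (.node (.leaf 0) (.leaf 174)) (.leaf 0)) (.node (.node (.leaf 0) (.leaf 0)) (.leaf 0)))) (.node (.node (.node (.node (.leaf 237) (.leaf 31)) (.node (.leaf 132) (.leaf 0))) (.node (.node (.leaf 0) (.leaf 0)) (.leaf 165))) (.node (.node (.node (.leaf 216) (.leaf 3)) (.leaf 0)) (.node (.node (.leaf 0) (.leaf 0)) (.leaf 252))))) (.node (.node (.node (.node (.node (.leaf 0) (.leaf 0)) (.node (.leaf 0) (.leaf 231))) (.node (.node (.leaf 80) (.leaf 267)) (.leaf 13))) (.node (.node (.node (.leaf 0) (.leaf 146)) (.leaf 43)) (.node (.node (.leaf 0) (.leaf 124)) (.leaf 264)))) (.node (.node (.node (.node (.leaf 191) (.leaf 0)) (.leaf 0)) (.node (.node (.leaf 0) (.leaf 0)) (.leaf 48))) (.node (.node (.node (.leaf 0) (.leaf 250)) (.leaf 41)) (.node (.node (.leaf 0)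 (.leaf 0)) (.leaf 70)))))))

/-- Part of `posT`. -/
def posT_p00010 : Tr := .node (.node (.node (.node (.node (.node (.node (.node (.leaf 0) (.leaf 0)) (.node (.leaf 173) (.leaf 0))) (.node (.node (.leaf 0) (.leaf 0)) (.leaf 0))) (.node (.node (.node (.leaf 0) (.leaf 64)) (.leaf 0)) (.node (.node (.leaf 0) (.leaf 49)) (.leaf 147)))) (.node (.node (.node (.node (.leaf 44) (.leaf 0)) (.node (.leaf 254) (.leaf 0))) (.node (.node (.leaf 0) (.leaf 158)) (.leaf 268))) (.node (.node (.node (.leaf 0) (.leaf 0)) (.leaf 0)) (.node (.node (.leaf 0) (.leaf 0)) (.leaf 0))))) (.node (.node (.node (.node (.node (.leaf 94) (.leaf 72)) (.node (.leaf 129) (.leaf 0))) (.node (.node (.leaf 65) (.leaf 0)) (.leaf 0))) (.node (.node (.node (.leaf 0) (.leaf 88)) (.leaf 0)) (.node (.node (.leaf 133) (.leaf 0)) (.leaf 0)))) (.node (.node (.node (.node (.leaf 238) (.leaf 0)) (.node (.leaf 0) (.leaf 169))) (.node (.node (.leaf 264) (.leaf 178)) (.leaf 110))) (.node (.node (.node (.leaf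 0) (.leaf 62)) (.leaf 0)) (.node (.node (.leaf 86) (.leaf 0)) (.leaf 23)))))) (.node (.node (.node (.node (.node (.node (.leaf 0) (.leaf 246)) (.node (.leaf 3) (.leaf 72))) (.node (.node (.leaf 0) (.leaf 0)) (.leaf 156))) (.node (.node (.node (.leaf 0) (.leaf 0)) (.leaf 0)) (.node (.node (.leaf 0) (.leaf 0)) (.leaf 0)))) (.node (.node (.node (.node (.leaf 0) (.leaf 0)) (.node (.leaf 60) (.leaf 0))) (.node (.node (.leaf 0) (.leaf 87)) (.leaf 0))) (.node (.node (.node (.leaf 0) (.leaf 133)) (.leaf 0)) (.node (.node (.leaf 0) (.leaf 272)) (.leaf 0))))) (.node (.node (.node (.node (.node (.leaf 0) (.leaf 0)) (.node (.leaf 0) (.leaf 266))) (.node (.node (.leaf 40) (.leaf 0)) (.leaf 0))) (.node (.node (.node (.leaf 0) (.leaf 0)) (.leaf 0)) (.node (.node (.leaf 0) (.leaf 0)) (.leaf 245)))) (.node (.node (.node (.node (.leaf 0) (.leaf 0)) (.leaf 0)) (.node (.node (.leaf 0) (.leaf 0)) (.leaf 18))) (.node (.node (.node (.leaf 147) (.leaf 86)) (.leaf 0)) (.node (.node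 (.leaf 0) (.leaf 118)) (.leaf 0))))))) (.node (.node (.node (.node (.node (.node (.node (.leaf 0) (.leaf 0)) (.node (.leaf 0) (.leaf 145))) (.node (.node (.leaf 0) (.leaf 0)) (.leaf 206))) (.node (.node (.node (.leaf 0) (.leaf 0)) (.leaf 0)) (.node (.node (.leaf 0) (.leaf 0)) (.leaf 114)))) (.node (.node (.node (.node (.leaf 0) (.leaf 0)) (.node (.leaf 155) (.leaf 0))) (.node (.node (.leaf 0) (.leaf 0)) (.leaf 0))) (.node (.node (.node (.leaf 0) (.leaf 168)) (.leaf 0)) (.node (.node (.leaf 0) (.leaf 0)) (.leaf 231))))) (.node (.node (.node (.node (.node (.leaf 0) (.leaf 0)) (.node (.leaf 96) (.leaf 0))) (.node (.node (.leaf 184) (.leaf 110)) (.leaf 0))) (.node (.node (.node (.leaf 0) (.leaf 149)) (.leaf 0)) (.node (.node (.leaf 103) (.leaf 0)) (.leaf 277)))) (.node (.node (.node (.node (.leaf 0) (.leaf 0)) (.leaf 0)) (.node (.node (.leaf 0) (.leaf 8)) (.leaf 0))) (.node (.node (.node (.leaf 0) (.leaf 0)) (.leaf 239)) (.node (.node (.leaf 0) (.leaf 192)) (.leaf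 0)))))) (.node (.node (.node (.node (.node (.node (.leaf 0) (.leaf 205)) (.node (.leaf 118) (.leaf 254))) (.node (.node (.leaf 277) (.leaf 0)) (.leaf 183))) (.node (.node (.node (.leaf 79) (.leaf 261)) (.leaf 0)) (.node (.node (.leaf 0) (.leaf 0)) (.leaf 221)))) (.node (.node (.node (.node (.leaf 0) (.leaf 120)) (.node (.leaf 0) (.leaf 51))) (.node (.node (.leaf 0) (.leaf 0)) (.leaf 0))) (.node (.node (.node (.leaf 0) (.leaf 0)) (.leaf 0)) (.node (.node (.leaf 0) (.leaf 0)) (.leaf 0))))) (.node (.node (.node (.node (.node (.leaf 0) (.leaf 0)) (.node (.leaf 0) (.leaf 176))) (.node (.node (.leaf 159) (.leaf 0)) (.leaf 0))) (.node (.node (.node (.leaf 226) (.leaf 177)) (.leaf 61)) (.node (.node (.leaf 198) (.leaf 0)) (.leaf 0)))) (.node (.node (.node (.node (.leaf 0) (.leaf 0)) (.leaf 223)) (.node (.node (.leaf 0) (.leaf 0)) (.leaf 0))) (.node (.node (.node (.leaf 0) (.leaf 29)) (.leaf 10)) (.node (.node (.leaf 38) (.leaf 0)) (.leaf 0)))))))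

/-- Part of `posT`. -/
def posT_p00011 : Tr := .node (.node (.node (.node (.node (.node (.node (.node (.leaf 0) (.leaf 0)) (.node (.leaf 149) (.leaf 234))) (.node (.node (.leaf 259) (.leaf 73)) (.leaf 0))) (.node (.node (.node (.leaf 0) (.leaf 0)) (.leaf 215)) (.node (.node (.leaf 0) (.leaf 0)) (.leaf 0)))) (.node (.node (.node (.node (.leaf 0) (.leaf 0)) (.node (.leaf 0) (.leaf 0))) (.node (.node (.leaf 0) (.leaf 0)) (.leaf 0))) (.node (.node (.node (.leaf 37) (.leaf 0)) (.leaf 0)) (.node (.node (.leaf 74) (.leaf 193)) (.leaf 0))))) (.node (.node (.node (.node (.node (.leaf 0) (.leaf 42)) (.node (.leaf 0) (.leaf 0))) (.node (.node (.leaf 153) (.leaf 0)) (.leaf 46))) (.node (.node (.node (.leaf 0) (.leaf 230)) (.leaf 0)) (.node (.node (.leaf 168) (.leaf 254)) (.leaf 0)))) (.node (.node (.node (.node (.leaf 249) (.leaf 84)) (.node (.leaf 0) (.leaf 33))) (.node (.node (.leaf 0) (.leaf 114)) (.leaf 137))) (.node (.node (.node (.leaf 0) (.leaf 118)) (.leaf 201))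 (.node (.node (.leaf 0) (.leaf 279)) (.leaf 0)))))) (.node (.node (.node (.node (.node (.node (.leaf 56) (.leaf 0)) (.node (.leaf 0) (.leaf 0))) (.node (.node (.leaf 179) (.leaf 0)) (.leaf 0))) (.node (.node (.node (.leaf 0) (.leaf 234)) (.leaf 0)) (.node (.node (.leaf 0) (.leaf 0)) (.leaf 21)))) (.node (.node (.node (.node (.leaf 0) (.leaf 0)) (.node (.leaf 83) (.leaf 27))) (.node (.node (.leaf 0) (.leaf 0)) (.leaf 222))) (.node (.node (.node (.leaf 0) (.leaf 0)) (.leaf 7)) (.node (.node (.leaf 209) (.leaf 0)) (.leaf 0))))) (.node (.node (.node (.node (.node (.leaf 0) (.leaf 259)) (.node (.leaf 0) (.leaf 196))) (.node (.node (.leaf 0) (.leaf 0)) (.leaf 0))) (.node (.node (.node (.leaf 125) (.leaf 0)) (.leaf 76)) (.node (.node (.leaf 0) (.leaf 0)) (.leaf 101)))) (.node (.node (.node (.node (.leaf 97) (.leaf 0)) (.leaf 0)) (.node (.node (.leaf 0) (.leaf 0)) (.leaf 0))) (.node (.node (.node (.leaf 0) (.leaf 271)) (.leaf 7)) (.node (.node (.leaf 0) (.leaf 0))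 (.leaf 0))))))) (.node (.node (.node (.node (.node (.node (.node (.leaf 0) (.leaf 0)) (.node (.leaf 0) (.leaf 0))) (.node (.node (.leaf 0) (.leaf 0)) (.leaf 0))) (.node (.node (.node (.leaf 90) (.leaf 0)) (.leaf 0)) (.node (.node (.leaf 234) (.leaf 0)) (.leaf 0)))) (.node (.node (.node (.node (.leaf 0) (.leaf 0)) (.node (.leaf 0) (.leaf 259))) (.node (.node (.leaf 0) (.leaf 119)) (.leaf 36))) (.node (.node (.node (.leaf 0) (.leaf 0)) (.leaf 224)) (.node (.node (.leaf 26) (.leaf 172)) (.leaf 0))))) (.node (.node (.node (.node (.node (.leaf 0) (.leaf 0)) (.node (.leaf 66) (.leaf 0))) (.node (.node (.leaf 7) (.leaf 260)) (.leaf 0))) (.node (.node (.node (.leaf 0) (.leaf 152)) (.leaf 147)) (.node (.node (.leaf 0) (.leaf 0)) (.leaf 235)))) (.node (.node (.node (.node (.leaf 0) (.leaf 0)) (.leaf 0)) (.node (.node (.leaf 0) (.leaf 0)) (.leaf 164))) (.node (.node (.node (.leaf 0) (.leaf 139)) (.leaf 0)) (.node (.node (.leaf 0) (.leaf 253)) (.leaf 25)))))) (.node (.node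 (.node (.node (.node (.node (.leaf 0) (.leaf 180)) (.node (.leaf 258) (.leaf 0))) (.node (.node (.leaf 0) (.leaf 0)) (.leaf 0))) (.node (.node (.node (.leaf 0) (.leaf 0)) (.leaf 0)) (.node (.node (.leaf 0) (.leaf 0)) (.leaf 0)))) (.node (.node (.node (.node (.leaf 214) (.leaf 0)) (.node (.leaf 0) (.leaf 0))) (.node (.node (.leaf 181) (.leaf 0)) (.leaf 190))) (.node (.node (.node (.leaf 0) (.leaf 0)) (.leaf 0)) (.node (.node (.leaf 0) (.leaf 224)) (.leaf 0))))) (.node (.node (.node (.node (.node (.leaf 92) (.leaf 0)) (.node (.leaf 0) (.leaf 243))) (.node (.node (.leaf 0) (.leaf 212)) (.leaf 0))) (.node (.node (.node (.leaf 0) (.leaf 0)) (.leaf 0)) (.node (.node (.leaf 0) (.leaf 0)) (.leaf 176)))) (.node (.node (.node (.node (.leaf 0) (.leaf 0)) (.leaf 0)) (.node (.node (.leaf 0) (.leaf 224)) (.leaf 52))) (.node (.node (.node (.leaf 98) (.leaf 16)) (.leaf 0)) (.node (.node (.leaf 0) (.leaf 277)) (.leaf 0)))))))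

/-- Part of `posT`. -/
def posT_p00100 : Tr := .node (.node (.node (.node (.node (.node (.node (.node (.leaf 0) (.leaf 0)) (.node (.leaf 0) (.leaf 165))) (.node (.node (.leaf 0) (.leaf 0)) (.leaf 0))) (.node (.node (.node (.leaf 32) (.leaf 254)) (.leaf 0)) (.node (.node (.leaf 182) (.leaf 252)) (.leaf 234)))) (.node (.node (.node (.node (.leaf 0) (.leaf 2)) (.node (.leaf 64) (.leaf 105))) (.node (.node (.leaf 0) (.leaf 112)) (.leaf 143))) (.node (.node (.node (.leaf 0) (.leaf 0)) (.leaf 91)) (.node (.node (.leaf 194) (.leaf 0)) (.leaf 14))))) (.node (.node (.node (.node (.node (.leaf 0) (.leaf 0)) (.node (.leaf 126) (.leaf 0))) (.node (.node (.leaf 252) (.leaf 0)) (.leaf 0))) (.node (.node (.node (.leaf 225) (.leaf 251)) (.leaf 0)) (.node (.node (.leaf 0) (.leaf 0)) (.leaf 47)))) (.node (.node (.node (.node (.leaf 0) (.leaf 0)) (.node (.leaf 195) (.leaf 0))) (.node (.node (.leaf 12) (.leaf 0)) (.leaf 126))) (.node (.node (.node (.leaf 34) (.leaf 0)) (.leaf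 0)) (.node (.node (.leaf 78) (.leaf 251)) (.leaf 0)))))) (.node (.node (.node (.node (.node (.node (.leaf 0) (.leaf 0)) (.node (.leaf 0) (.leaf 147))) (.node (.node (.leaf 129) (.leaf 0)) (.leaf 172))) (.node (.node (.node (.leaf 0) (.leaf 0)) (.leaf 0)) (.node (.node (.leaf 0) (.leaf 216)) (.leaf 0)))) (.node (.node (.node (.node (.leaf 0) (.leaf 0)) (.node (.leaf 0) (.leaf 0))) (.node (.node (.leaf 0) (.leaf 0)) (.leaf 0))) (.node (.node (.node (.leaf 0) (.leaf 0)) (.leaf 0)) (.node (.node (.leaf 264) (.leaf 0)) (.leaf 0))))) (.node (.node (.node (.node (.node (.leaf 0) (.leaf 0)) (.node (.leaf 53) (.leaf 183))) (.node (.node (.leaf 0) (.leaf 229)) (.leaf 169))) (.node (.node (.node (.leaf 0) (.leaf 14)) (.leaf 0)) (.node (.node (.leaf 0) (.leaf 0)) (.leaf 0)))) (.node (.node (.node (.node (.leaf 0) (.leaf 0)) (.leaf 138)) (.node (.node (.leaf 0) (.leaf 0)) (.leaf 0))) (.node (.node (.node (.leaf 0) (.leaf 215)) (.leaf 0)) (.node (.node (.leaf 259) (.leaf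 0)) (.leaf 0))))))) (.node (.node (.node (.node (.node (.node (.node (.leaf 0) (.leaf 0)) (.node (.leaf 130) (.leaf 52))) (.node (.node (.leaf 0) (.leaf 106)) (.leaf 0))) (.node (.node (.node (.leaf 0) (.leaf 6)) (.leaf 0)) (.node (.node (.leaf 0) (.leaf 0)) (.leaf 145)))) (.node (.node (.node (.node (.leaf 0) (.leaf 0)) (.node (.leaf 0) (.leaf 0))) (.node (.node (.leaf 0) (.leaf 100)) (.leaf 0))) (.node (.node (.node (.leaf 0) (.leaf 70)) (.leaf 174)) (.node (.node (.leaf 263) (.leaf 0)) (.leaf 194))))) (.node (.node (.node (.node (.node (.leaf 0) (.leaf 0)) (.node (.leaf 0) (.leaf 0))) (.node (.node (.leaf 0) (.leaf 0)) (.leaf 0))) (.node (.node (.node (.leaf 0) (.leaf 224)) (.leaf 0)) (.node (.node (.leaf 113) (.leaf 15)) (.leaf 58)))) (.node (.node (.node (.node (.leaf 0) (.leaf 0)) (.leaf 0)) (.node (.node (.leaf 0) (.leaf 0)) (.leaf 0))) (.node (.node (.node (.leaf 232) (.leaf 0)) (.leaf 0)) (.node (.node (.leaf 0) (.leaf 7)) (.leaf 0)))))) (.node (.node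 (.node (.node (.node (.node (.leaf 227) (.leaf 248)) (.node (.leaf 277) (.leaf 111))) (.node (.node (.leaf 0) (.leaf 0)) (.leaf 266))) (.node (.node (.node (.leaf 0) (.leaf 0)) (.leaf 0)) (.node (.node (.leaf 0) (.leaf 0)) (.leaf 0)))) (.node (.node (.node (.node (.leaf 0) (.leaf 0)) (.node (.leaf 0) (.leaf 70))) (.node (.node (.leaf 0) (.leaf 0)) (.leaf 118))) (.node (.node (.node (.leaf 0) (.leaf 247)) (.leaf 0)) (.node (.node (.leaf 0) (.leaf 273)) (.leaf 0))))) (.node (.node (.node (.node (.node (.leaf 0) (.leaf 0)) (.node (.leaf 0) (.leaf 0))) (.node (.node (.leaf 0) (.leaf 0)) (.leaf 113))) (.node (.node (.node (.leaf 236) (.leaf 0)) (.leaf 204)) (.node (.node (.leaf 0) (.leaf 0)) (.leaf 0)))) (.node (.node (.node (.node (.leaf 242) (.leaf 155)) (.leaf 0)) (.node (.node (.leaf 0) (.leaf 0)) (.leaf 0))) (.node (.node (.node (.leaf 0) (.leaf 0)) (.leaf 130)) (.node (.node (.leaf 98) (.leaf 0)) (.leaf 0)))))))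

/-- Part of `posT`. -/
def posT_p00101 : Tr := .node (.node (.node (.node (.node (.node (.node (.node (.leaf 0) (.leaf 0)) (.node (.leaf 0) (.leaf 48))) (.node (.node (.leaf 0) (.leaf 0)) (.leaf 11))) (.node (.node (.node (.leaf 0) (.leaf 0)) (.leaf 267)) (.node (.node (.leaf 0) (.leaf 0)) (.leaf 0)))) (.node (.node (.node (.node (.leaf 237) (.leaf 0)) (.node (.leaf 0) (.leaf 268))) (.node (.node (.leaf 0) (.leaf 0)) (.leaf 0))) (.node (.node (.node (.leaf 0) (.leaf 0)) (.leaf 0)) (.node (.node (.leaf 0) (.leaf 236)) (.leaf 0))))) (.node (.node (.node (.node (.node (.leaf 0) (.leaf 0)) (.node (.leaf 0) (.leaf 164))) (.node (.node (.leaf 265) (.leaf 0)) (.leaf 43))) (.node (.node (.node (.leaf 0) (.leaf 82)) (.leaf 0)) (.node (.node (.leaf 0) (.leaf 25)) (.leaf 0)))) (.node (.node (.node (.node (.leaf 32) (.leaf 0)) (.node (.leaf 0) (.leaf 0))) (.node (.node (.leaf 26) (.leaf 0)) (.leaf 3))) (.node (.node (.node (.leaf 0) (.leaf 0)) (.leaf 0)) (.node (.node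 (.leaf 0) (.leaf 65)) (.leaf 108)))))) (.node (.node (.node (.node (.node (.node (.leaf 0) (.leaf 0)) (.node (.leaf 85) (.leaf 34))) (.node (.node (.leaf 0) (.leaf 0)) (.leaf 209))) (.node (.node (.node (.leaf 0) (.leaf 0)) (.leaf 0)) (.node (.node (.leaf 0) (.leaf 0)) (.leaf 0)))) (.node (.node (.node (.node (.leaf 0) (.leaf 0)) (.node (.leaf 0) (.leaf 195))) (.node (.node (.leaf 0) (.leaf 99)) (.leaf 0))) (.node (.node (.node (.leaf 0) (.leaf 0)) (.leaf 88)) (.node (.node (.leaf 248) (.leaf 206)) (.leaf 0))))) (.node (.node (.node (.node (.node (.leaf 0) (.leaf 87)) (.node (.leaf 0) (.leaf 181))) (.node (.node (.leaf 0) (.leaf 0)) (.leaf 0))) (.node (.node (.node (.leaf 237) (.leaf 0)) (.leaf 0)) (.node (.node (.leaf 0) (.leaf 0)) (.leaf 0)))) (.node (.node (.node (.node (.leaf 0) (.leaf 0)) (.leaf 0)) (.node (.node (.leaf 0) (.leaf 0)) (.leaf 123))) (.node (.node (.node (.leaf 0) (.leaf 0)) (.leaf 192)) (.node (.node (.leaf 0) (.leaf 222)) (.leaf 0)))))))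 (.node (.node (.node (.node (.node (.node (.node (.leaf 0) (.leaf 212)) (.node (.leaf 153) (.leaf 0))) (.node (.node (.leaf 229) (.leaf 0)) (.leaf 78))) (.node (.node (.node (.leaf 0) (.leaf 148)) (.leaf 0)) (.node (.node (.leaf 142) (.leaf 0)) (.leaf 6)))) (.node (.node (.node (.node (.leaf 0) (.leaf 124)) (.node (.leaf 0) (.leaf 0))) (.node (.node (.leaf 0) (.leaf 0)) (.leaf 0))) (.node (.node (.node (.leaf 0) (.leaf 0)) (.leaf 0)) (.node (.node (.leaf 231) (.leaf 0)) (.leaf 0))))) (.node (.node (.node (.node (.node (.leaf 0) (.leaf 0)) (.node (.leaf 0) (.leaf 0))) (.node (.node (.leaf 0) (.leaf 245)) (.leaf 51))) (.node (.node (.node (.leaf 227) (.leaf 0)) (.leaf 211)) (.node (.node (.leaf 0) (.leaf 0)) (.leaf 247)))) (.node (.node (.node (.node (.leaf 0) (.leaf 83)) (.leaf 13)) (.node (.node (.leaf 0) (.leaf 0)) (.leaf 0))) (.node (.node (.node (.leaf 0) (.leaf 272)) (.leaf 124)) (.node (.node (.leaf 0) (.leaf 82)) (.leaf 0)))))) (.node (.node (.node (.node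 (.node (.node (.leaf 0) (.leaf 0)) (.node (.leaf 101) (.leaf 0))) (.node (.node (.leaf 0) (.leaf 0)) (.leaf 0))) (.node (.node (.node (.leaf 0) (.leaf 279)) (.leaf 48)) (.node (.node (.leaf 0) (.leaf 0)) (.leaf 0)))) (.node (.node (.node (.node (.leaf 0) (.leaf 0)) (.node (.leaf 84) (.leaf 13))) (.node (.node (.leaf 0) (.leaf 0)) (.leaf 85))) (.node (.node (.node (.leaf 0) (.leaf 276)) (.leaf 0)) (.node (.node (.leaf 0) (.leaf 0)) (.leaf 0))))) (.node (.node (.node (.node (.node (.leaf 0) (.leaf 0)) (.node (.leaf 0) (.leaf 0))) (.node (.node (.leaf 198) (.leaf 0)) (.leaf 0))) (.node (.node (.node (.leaf 0) (.leaf 61)) (.leaf 0)) (.node (.node (.leaf 159) (.leaf 53)) (.leaf 0)))) (.node (.node (.node (.node (.leaf 0) (.leaf 0)) (.leaf 29)) (.node (.node (.leaf 0) (.leaf 217)) (.leaf 182))) (.node (.node (.node (.leaf 38) (.leaf 0)) (.leaf 0)) (.node (.node (.leaf 0) (.leaf 0)) (.leaf 0)))))))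

/-- Part of `posT`. -/
def posT_p00110 : Tr := .node (.node (.node (.node (.node (.node (.node (.node (.leaf 0) (.leaf 0)) (.node (.leaf 184) (.leaf 0))) (.node (.node (.leaf 0) (.leaf 0)) (.leaf 0))) (.node (.node (.node (.leaf 0) (.leaf 182)) (.leaf 248)) (.node (.node (.leaf 6) (.leaf 0)) (.leaf 0)))) (.node (.node (.node (.node (.leaf 0) (.leaf 0)) (.node (.leaf 0) (.leaf 0))) (.node (.node (.leaf 81) (.leaf 78)) (.leaf 99))) (.node (.node (.node (.leaf 0) (.leaf 0)) (.leaf 270)) (.node (.node (.leaf 204) (.leaf 201)) (.leaf 0))))) (.node (.node (.node (.node (.node (.leaf 0) (.leaf 211)) (.node (.leaf 0) (.leaf 0))) (.node (.node (.leaf 0) (.leaf 0)) (.leaf 0))) (.node (.node (.node (.leaf 0) (.leaf 0)) (.leaf 34)) (.node (.node (.leaf 0) (.leaf 109)) (.leaf 73)))) (.node (.node (.node (.node (.leaf 0) (.leaf 0)) (.node (.leaf 0) (.leaf 138))) (.node (.node (.leaf 0) (.leaf 180)) (.leaf 247))) (.node (.node (.node (.leaf 0) (.leaf 0)) (.leaf 193)) (.node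 (.node (.leaf 11) (.leaf 41)) (.leaf 123)))))) (.node (.node (.node (.node (.node (.node (.leaf 0) (.leaf 0)) (.node (.leaf 0) (.leaf 0))) (.node (.node (.leaf 276) (.leaf 0)) (.leaf 0))) (.node (.node (.node (.leaf 0) (.leaf 232)) (.leaf 0)) (.node (.node (.leaf 0) (.leaf 0)) (.leaf 0)))) (.node (.node (.node (.node (.leaf 0) (.leaf 0)) (.node (.leaf 0) (.leaf 0))) (.node (.node (.leaf 0) (.leaf 0)) (.leaf 0))) (.node (.node (.node (.leaf 0) (.leaf 216)) (.leaf 0)) (.node (.node (.leaf 0) (.leaf 156)) (.leaf 0))))) (.node (.node (.node (.node (.node (.leaf 0) (.leaf 119)) (.node (.leaf 0) (.leaf 0))) (.node (.node (.leaf 0) (.leaf 276)) (.leaf 33))) (.node (.node (.node (.leaf 214) (.leaf 0)) (.leaf 0)) (.node (.node (.leaf 0) (.leaf 0)) (.leaf 93)))) (.node (.node (.node (.node (.leaf 0) (.leaf 0)) (.leaf 0)) (.node (.node (.leaf 0) (.leaf 42)) (.leaf 0))) (.node (.node (.node (.leaf 0) (.leaf 187)) (.leaf 217)) (.node (.node (.leaf 99) (.leaf 240)) (.leaf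 0))))))) (.node (.node (.node (.node (.node (.node (.node (.leaf 0) (.leaf 0)) (.node (.leaf 0) (.leaf 0))) (.node (.node (.leaf 0) (.leaf 0)) (.leaf 100))) (.node (.node (.node (.leaf 0) (.leaf 0)) (.leaf 0)) (.node (.node (.leaf 211) (.leaf 0)) (.leaf 0)))) (.node (.node (.node (.node (.leaf 227) (.leaf 0)) (.node (.leaf 203) (.leaf 36))) (.node (.node (.leaf 0) (.leaf 246)) (.leaf 0))) (.node (.node (.node (.leaf 195) (.leaf 0)) (.leaf 261)) (.node (.node (.leaf 0) (.leaf 0)) (.leaf 0))))) (.node (.node (.node (.node (.node (.leaf 32) (.leaf 142)) (.node (.leaf 236) (.leaf 0))) (.node (.node (.leaf 173) (.leaf 0)) (.leaf 27))) (.node (.node (.node (.leaf 0) (.leaf 0)) (.leaf 0)) (.node (.node (.leaf 0) (.leaf 0)) (.leaf 0)))) (.node (.node (.node (.node (.leaf 0) (.leaf 0)) (.leaf 0)) (.node (.node (.leaf 117) (.leaf 0)) (.leaf 0))) (.node (.node (.node (.leaf 148) (.leaf 223)) (.leaf 0)) (.node (.node (.leaf 0) (.leaf 10)) (.leaf 0)))))) (.node (.node (.node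 (.node (.node (.node (.leaf 0) (.leaf 158)) (.node (.leaf 0) (.leaf 141))) (.node (.node (.leaf 0) (.leaf 0)) (.leaf 0))) (.node (.node (.node (.leaf 97) (.leaf 0)) (.leaf 0)) (.node (.node (.leaf 0) (.leaf 0)) (.leaf 0)))) (.node (.node (.node (.node (.leaf 125) (.leaf 0)) (.node (.leaf 0) (.leaf 144))) (.node (.node (.leaf 0) (.leaf 143)) (.leaf 58))) (.node (.node (.node (.leaf 0) (.leaf 229)) (.leaf 0)) (.node (.node (.leaf 267) (.leaf 0)) (.leaf 0))))) (.node (.node (.node (.node (.node (.leaf 0) (.leaf 0)) (.node (.leaf 0) (.leaf 91))) (.node (.node (.leaf 0) (.leaf 0)) (.leaf 0))) (.node (.node (.node (.leaf 53) (.leaf 43)) (.leaf 263)) (.node (.node (.leaf 80) (.leaf 0)) (.leaf 43)))) (.node (.node (.node (.node (.leaf 0) (.leaf 108)) (.leaf 0)) (.node (.node (.leaf 0) (.leaf 265)) (.leaf 0))) (.node (.node (.node (.leaf 0) (.leaf 112)) (.leaf 0)) (.node (.node (.leaf 0) (.leaf 0)) (.leaf 0)))))))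

/-- Part of `posT`. -/
def posT_p00111 : Tr := .node (.node (.node (.node (.node (.node (.node (.node (.leaf 0) (.leaf 0)) (.node (.leaf 217) (.leaf 0))) (.node (.node (.leaf 136) (.leaf 0)) (.leaf 112))) (.node (.node (.node (.leaf 0) (.leaf 0)) (.leaf 0)) (.node (.node (.leaf 0) (.leaf 0)) (.leaf 0)))) (.node (.node (.node (.node (.leaf 0) (.leaf 0)) (.node (.leaf 0) (.leaf 162))) (.node (.node (.leaf 0) (.leaf 11)) (.leaf 0))) (.node (.node (.node (.leaf 0) (.leaf 0)) (.leaf 0)) (.node (.node (.leaf 91) (.leaf 0)) (.leaf 263))))) (.node (.node (.node (.node (.node (.leaf 0) (.leaf 0)) (.node (.leaf 0) (.leaf 18))) (.node (.node (.leaf 251) (.leaf 0)) (.leaf 14))) (.node (.node (.node (.leaf 0) (.leaf 265)) (.leaf 142)) (.node (.node (.leaf 0) (.leaf 0)) (.leaf 126)))) (.node (.node (.node (.node (.leaf 0) (.leaf 132)) (.node (.leaf 0) (.leaf 0))) (.node (.node (.leaf 74) (.leaf 232)) (.leaf 0))) (.node (.node (.node (.leaf 0) (.leaf 0)) (.leaf 0)) (.node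 (.node (.leaf 0) (.leaf 0)) (.leaf 0)))))) (.node (.node (.node (.node (.node (.node (.leaf 237) (.leaf 0)) (.node (.leaf 179) (.leaf 0))) (.node (.node (.leaf 0) (.leaf 0)) (.leaf 0))) (.node (.node (.node (.leaf 0) (.leaf 0)) (.leaf 0)) (.node (.node (.leaf 0) (.leaf 0)) (.leaf 0)))) (.node (.node (.node (.node (.leaf 0) (.leaf 0)) (.node (.leaf 0) (.leaf 213))) (.node (.node (.leaf 0) (.leaf 0)) (.leaf 0))) (.node (.node (.node (.leaf 70) (.leaf 0)) (.leaf 262)) (.node (.node (.leaf 0) (.leaf 0)) (.leaf 0))))) (.node (.node (.node (.node (.node (.leaf 0) (.leaf 0)) (.node (.leaf 0) (.leaf 46))) (.node (.node (.leaf 0) (.leaf 235)) (.leaf 0))) (.node (.node (.node (.leaf 0) (.leaf 0)) (.leaf 152)) (.node (.node (.leaf 0) (.leaf 0)) (.leaf 260)))) (.node (.node (.node (.node (.leaf 79) (.leaf 0)) (.leaf 139)) (.node (.node (.leaf 0) (.leaf 0)) (.leaf 0))) (.node (.node (.node (.leaf 0) (.leaf 100)) (.leaf 253)) (.node (.node (.leaf 143) (.leaf 0)) (.leaf 113)))))))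 (.node (.node (.node (.node (.node (.node (.node (.leaf 0) (.leaf 267)) (.node (.leaf 0) (.leaf 0))) (.node (.node (.leaf 258) (.leaf 221)) (.leaf 0))) (.node (.node (.node (.leaf 0) (.leaf 0)) (.leaf 0)) (.node (.node (.leaf 0) (.leaf 0)) (.leaf 0)))) (.node (.node (.node (.node (.leaf 0) (.leaf 0)) (.node (.leaf 0) (.leaf 0))) (.node (.node (.leaf 0) (.leaf 0)) (.leaf 0))) (.node (.node (.node (.leaf 13) (.leaf 0)) (.leaf 0)) (.node (.node (.leaf 0) (.leaf 175)) (.leaf 0))))) (.node (.node (.node (.node (.node (.leaf 0) (.leaf 8)) (.node (.leaf 0) (.leaf 241))) (.node (.node (.leaf 189) (.leaf 0)) (.leaf 216))) (.node (.node (.node (.leaf 238) (.leaf 76)) (.leaf 0)) (.node (.node (.leaf 0) (.leaf 0)) (.leaf 85)))) (.node (.node (.node (.node (.leaf 0) (.leaf 0)) (.leaf 0)) (.node (.node (.leaf 124) (.leaf 148)) (.leaf 108))) (.node (.node (.node (.leaf 0) (.leaf 0)) (.leaf 0)) (.node (.node (.leaf 0) (.leaf 0)) (.leaf 0)))))) (.node (.node (.node (.node (.node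 (.node (.leaf 0) (.leaf 178)) (.node (.leaf 197) (.leaf 0))) (.node (.node (.leaf 82) (.leaf 0)) (.leaf 243))) (.node (.node (.node (.leaf 0) (.leaf 252)) (.leaf 0)) (.node (.node (.leaf 138) (.leaf 23)) (.leaf 0)))) (.node (.node (.node (.node (.leaf 0) (.leaf 0)) (.node (.leaf 161) (.leaf 0))) (.node (.node (.leaf 0) (.leaf 0)) (.leaf 0))) (.node (.node (.node (.leaf 48) (.leaf 58)) (.leaf 0)) (.node (.node (.leaf 0) (.leaf 0)) (.leaf 0))))) (.node (.node (.node (.node (.node (.leaf 0) (.leaf 131)) (.node (.leaf 0) (.leaf 204))) (.node (.node (.leaf 0) (.leaf 102)) (.leaf 0))) (.node (.node (.node (.leaf 0) (.leaf 0)) (.leaf 194)) (.node (.node (.leaf 0) (.leaf 239)) (.leaf 0)))) (.node (.node (.node (.node (.leaf 0) (.leaf 123)) (.leaf 0)) (.node (.node (.leaf 0) (.leaf 130)) (.leaf 0))) (.node (.node (.node (.leaf 0) (.leaf 0)) (.leaf 0)) (.node (.node (.leaf 0) (.leaf 190)) (.leaf 0)))))))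

/-- Part of `posT`. -/
def posT_p01000 : Tr := .node (.node (.node (.node (.node (.node (.node (.node (.leaf 0) (.leaf 0)) (.node (.leaf 82) (.leaf 0))) (.node (.node (.leaf 36) (.leaf 0)) (.leaf 0))) (.node (.node (.node (.leaf 79) (.leaf 0)) (.leaf 172)) (.node (.node (.leaf 0) (.leaf 0)) (.leaf 0)))) (.node (.node (.node (.node (.leaf 225) (.leaf 0)) (.node (.leaf 0) (.leaf 0))) (.node (.node (.leaf 25) (.leaf 151)) (.leaf 0))) (.node (.node (.node (.leaf 0) (.leaf 27)) (.leaf 244)) (.node (.node (.leaf 0) (.leaf 0)) (.leaf 270))))) (.node (.node (.node (.node (.node (.leaf 0) (.leaf 0)) (.node (.leaf 0) (.leaf 0))) (.node (.node (.leaf 0) (.leaf 199)) (.leaf 0))) (.node (.node (.node (.leaf 0) (.leaf 0)) (.leaf 0)) (.node (.node (.leaf 0) (.leaf 108)) (.leaf 0)))) (.node (.node (.node (.node (.leaf 0) (.leaf 2)) (.node (.leaf 0) (.leaf 0))) (.node (.node (.leaf 0) (.leaf 0)) (.leaf 0))) (.node (.node (.node (.leaf 0) (.leaf 0)) (.leaf 0)) (.node (.node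 (.leaf 257) (.leaf 0)) (.leaf 0)))))) (.node (.node (.node (.node (.node (.node (.leaf 269) (.leaf 215)) (.node (.leaf 0) (.leaf 0))) (.node (.node (.leaf 126) (.leaf 0)) (.leaf 0))) (.node (.node (.node (.leaf 0) (.leaf 0)) (.leaf 62)) (.node (.node (.leaf 0) (.leaf 19)) (.leaf 0)))) (.node (.node (.node (.node (.leaf 0) (.leaf 0)) (.node (.leaf 0) (.leaf 0))) (.node (.node (.leaf 0) (.leaf 84)) (.leaf 0))) (.node (.node (.node (.leaf 0) (.leaf 113)) (.leaf 41)) (.node (.node (.leaf 0) (.leaf 0)) (.leaf 0))))) (.node (.node (.node (.node (.node (.leaf 0) (.leaf 0)) (.node (.leaf 106) (.leaf 0))) (.node (.node (.leaf 111) (.leaf 0)) (.leaf 0))) (.node (.node (.node (.leaf 0) (.leaf 150)) (.leaf 1)) (.node (.node (.leaf 0) (.leaf 0)) (.leaf 0)))) (.node (.node (.node (.node (.leaf 0) (.leaf 0)) (.leaf 200)) (.node (.node (.leaf 0) (.leaf 0)) (.leaf 0))) (.node (.node (.node (.leaf 142) (.leaf 0)) (.leaf 251)) (.node (.node (.leaf 0) (.leaf 0)) (.leaf 0)))))))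 (.node (.node (.node (.node (.node (.node (.node (.leaf 274) (.leaf 0)) (.node (.leaf 0) (.leaf 0))) (.node (.node (.leaf 0) (.leaf 0)) (.leaf 0))) (.node (.node (.node (.leaf 125) (.leaf 0)) (.leaf 0)) (.node (.node (.leaf 0) (.leaf 0)) (.leaf 0)))) (.node (.node (.node (.node (.leaf 0) (.leaf 73)) (.node (.leaf 63) (.leaf 0))) (.node (.node (.leaf 0) (.leaf 107)) (.leaf 0))) (.node (.node (.node (.leaf 0) (.leaf 0)) (.leaf 0)) (.node (.node (.leaf 0) (.leaf 0)) (.leaf 0))))) (.node (.node (.node (.node (.node (.leaf 0) (.leaf 0)) (.node (.leaf 0) (.leaf 0))) (.node (.node (.leaf 0) (.leaf 58)) (.leaf 196))) (.node (.node (.node (.leaf 0) (.leaf 0)) (.leaf 145)) (.node (.node (.leaf 0) (.leaf 0)) (.leaf 0)))) (.node (.node (.node (.node (.leaf 0) (.leaf 0)) (.leaf 0)) (.node (.node (.leaf 263) (.leaf 69)) (.leaf 103))) (.node (.node (.node (.leaf 0) (.leaf 0)) (.leaf 0)) (.node (.node (.leaf 0) (.leaf 0)) (.leaf 155)))))) (.node (.node (.node (.node (.node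 (.node (.leaf 0) (.leaf 0)) (.node (.leaf 0) (.leaf 103))) (.node (.node (.leaf 245) (.leaf 71)) (.leaf 0))) (.node (.node (.node (.leaf 44) (.leaf 0)) (.leaf 54)) (.node (.node (.leaf 0) (.leaf 70)) (.leaf 0)))) (.node (.node (.node (.node (.leaf 0) (.leaf 0)) (.node (.leaf 162) (.leaf 0))) (.node (.node (.leaf 0) (.leaf 0)) (.leaf 0))) (.node (.node (.node (.leaf 0) (.leaf 0)) (.leaf 0)) (.node (.node (.leaf 0) (.leaf 100)) (.leaf 0))))) (.node (.node (.node (.node (.node (.leaf 0) (.leaf 161)) (.node (.leaf 23) (.leaf 0))) (.node (.node (.leaf 0) (.leaf 5)) (.leaf 0))) (.node (.node (.node (.leaf 0) (.leaf 0)) (.leaf 177)) (.node (.node (.leaf 0) (.leaf 0)) (.leaf 0)))) (.node (.node (.node (.node (.leaf 44) (.leaf 0)) (.leaf 0)) (.node (.node (.leaf 0) (.leaf 88)) (.leaf 0))) (.node (.node (.node (.leaf 0) (.leaf 0)) (.leaf 0)) (.node (.node (.leaf 0) (.leaf 137)) (.leaf 0)))))))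

/-- Part of `posT`. -/
def posT_p01001 : Tr := .node (.node (.node (.node (.node (.node (.node (.node (.leaf 0) (.leaf 0)) (.node (.leaf 0) (.leaf 0))) (.node (.node (.leaf 135) (.leaf 0)) (.leaf 0))) (.node (.node (.node (.leaf 0) (.leaf 8)) (.leaf 0)) (.node (.node (.leaf 0) (.leaf 251)) (.leaf 0)))) (.node (.node (.node (.node (.leaf 0) (.leaf 0)) (.node (.leaf 15) (.leaf 143))) (.node (.node (.leaf 0) (.leaf 205)) (.leaf 0))) (.node (.node (.node (.leaf 239) (.leaf 0)) (.leaf 0)) (.node (.node (.leaf 0) (.leaf 0)) (.leaf 199))))) (.node (.node (.node (.node (.node (.leaf 0) (.leaf 116)) (.node (.leaf 250) (.leaf 0))) (.node (.node (.leaf 0) (.leaf 0)) (.leaf 264))) (.node (.node (.node (.leaf 0) (.leaf 0)) (.leaf 0)) (.node (.node (.leaf 0) (.leaf 0)) (.leaf 0)))) (.node (.node (.node (.node (.leaf 0) (.leaf 268)) (.node (.leaf 0) (.leaf 0))) (.node (.node (.leaf 0) (.leaf 0)) (.leaf 0))) (.node (.node (.node (.leaf 0) (.leaf 126)) (.leaf 0)) (.node (.node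 (.leaf 102) (.leaf 0)) (.leaf 0)))))) (.node (.node (.node (.node (.node (.node (.leaf 0) (.leaf 107)) (.node (.leaf 0) (.leaf 0))) (.node (.node (.leaf 0) (.leaf 0)) (.leaf 0))) (.node (.node (.node (.leaf 22) (.leaf 0)) (.leaf 0)) (.node (.node (.leaf 232) (.leaf 0)) (.leaf 0)))) (.node (.node (.node (.node (.leaf 0) (.leaf 193)) (.node (.leaf 0) (.leaf 0))) (.node (.node (.leaf 115) (.leaf 0)) (.leaf 0))) (.node (.node (.node (.leaf 113) (.leaf 0)) (.leaf 0)) (.node (.node (.leaf 0) (.leaf 0)) (.leaf 233))))) (.node (.node (.node (.node (.node (.leaf 0) (.leaf 0)) (.node (.leaf 0) (.leaf 0))) (.node (.node (.leaf 0) (.leaf 85)) (.leaf 0))) (.node (.node (.node (.leaf 0) (.leaf 183)) (.leaf 150)) (.node (.node (.leaf 0) (.leaf 0)) (.leaf 0)))) (.node (.node (.node (.node (.leaf 0) (.leaf 0)) (.leaf 0)) (.node (.node (.leaf 0) (.leaf 0)) (.leaf 159))) (.node (.node (.node (.leaf 105) (.leaf 0)) (.leaf 0)) (.node (.node (.leaf 0) (.leaf 197)) (.leaf 0)))))))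 (.node (.node (.node (.node (.node (.node (.node (.leaf 0) (.leaf 0)) (.node (.leaf 265) (.leaf 0))) (.node (.node (.leaf 0) (.leaf 96)) (.leaf 0))) (.node (.node (.node (.leaf 0) (.leaf 52)) (.leaf 0)) (.node (.node (.leaf 0) (.leaf 68)) (.leaf 0)))) (.node (.node (.node (.node (.leaf 24) (.leaf 47)) (.node (.leaf 0) (.leaf 0))) (.node (.node (.leaf 257) (.leaf 0)) (.leaf 98))) (.node (.node (.node (.leaf 0) (.leaf 33)) (.leaf 230)) (.node (.node (.leaf 0) (.leaf 11)) (.leaf 0))))) (.node (.node (.node (.node (.node (.leaf 0) (.leaf 0)) (.node (.leaf 0) (.leaf 0))) (.node (.node (.leaf 0) (.leaf 0)) (.leaf 70))) (.node (.node (.node (.leaf 0) (.leaf 0)) (.leaf 0)) (.node (.node (.leaf 0) (.leaf 0)) (.leaf 0)))) (.node (.node (.node (.node (.leaf 0) (.leaf 0)) (.leaf 171)) (.node (.node (.leaf 0) (.leaf 0)) (.leaf 0))) (.node (.node (.node (.leaf 0) (.leaf 0)) (.leaf 0)) (.node (.node (.leaf 0) (.leaf 0)) (.leaf 0)))))) (.node (.node (.node (.node (.node (.node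 (.leaf 214) (.leaf 0)) (.node (.leaf 0) (.leaf 80))) (.node (.node (.leaf 0) (.leaf 0)) (.leaf 0))) (.node (.node (.node (.leaf 0) (.leaf 0)) (.leaf 180)) (.node (.node (.leaf 0) (.leaf 0)) (.leaf 96)))) (.node (.node (.node (.node (.leaf 0) (.leaf 0)) (.node (.leaf 0) (.leaf 0))) (.node (.node (.leaf 204) (.leaf 60)) (.leaf 0))) (.node (.node (.node (.leaf 0) (.leaf 222)) (.leaf 0)) (.node (.node (.leaf 0) (.leaf 0)) (.leaf 49))))) (.node (.node (.node (.node (.node (.leaf 0) (.leaf 60)) (.node (.leaf 0) (.leaf 0))) (.node (.node (.leaf 0) (.leaf 210)) (.leaf 0))) (.node (.node (.node (.leaf 0) (.leaf 0)) (.leaf 146)) (.node (.node (.leaf 109) (.leaf 0)) (.leaf 0)))) (.node (.node (.node (.node (.leaf 242) (.leaf 0)) (.leaf 271)) (.node (.node (.leaf 0) (.leaf 0)) (.leaf 0))) (.node (.node (.node (.leaf 0) (.leaf 57)) (.leaf 153)) (.node (.node (.leaf 0) (.leaf 0)) (.leaf 0)))))))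

/-- Part of `posT`. -/
def posT_p01010 : Tr := .node (.node (.node (.node (.node (.node (.node (.node (.leaf 0) (.leaf 19)) (.node (.leaf 0) (.leaf 0))) (.node (.node (.leaf 0) (.leaf 37)) (.leaf 0))) (.node (.node (.node (.leaf 30) (.leaf 178)) (.leaf 209)) (.node (.node (.leaf 0) (.leaf 0)) (.leaf 72)))) (.node (.node (.node (.node (.leaf 0) (.leaf 0)) (.node (.leaf 0) (.leaf 99))) (.node (.node (.leaf 0) (.leaf 0)) (.leaf 0))) (.node (.node (.node (.leaf 0) (.leaf 0)) (.leaf 0)) (.node (.node (.leaf 0) (.leaf 0)) (.leaf 0))))) (.node (.node (.node (.node (.node (.leaf 238) (.leaf 0)) (.node (.leaf 0) (.leaf 39))) (.node (.node (.leaf 0) (.leaf 14)) (.leaf 231))) (.node (.node (.node (.leaf 249) (.leaf 7)) (.leaf 0)) (.node (.node (.leaf 35) (.leaf 123)) (.leaf 45)))) (.node (.node (.node (.node (.leaf 127) (.leaf 0)) (.node (.leaf 0) (.leaf 0))) (.node (.node (.leaf 0) (.leaf 0)) (.leaf 179))) (.node (.node (.node (.leaf 0) (.leaf 85)) (.leaf 0)) (.node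 (.node (.leaf 0) (.leaf 153)) (.leaf 0)))))) (.node (.node (.node (.node (.node (.node (.leaf 163) (.leaf 272)) (.node (.leaf 229) (.leaf 0))) (.node (.node (.leaf 0) (.leaf 0)) (.leaf 0))) (.node (.node (.node (.leaf 0) (.leaf 0)) (.leaf 118)) (.node (.node (.leaf 148) (.leaf 35)) (.leaf 0)))) (.node (.node (.node (.node (.leaf 92) (.leaf 0)) (.node (.leaf 0) (.leaf 0))) (.node (.node (.leaf 246) (.leaf 0)) (.leaf 4))) (.node (.node (.node (.leaf 0) (.leaf 0)) (.leaf 0)) (.node (.node (.leaf 0) (.leaf 0)) (.leaf 88))))) (.node (.node (.node (.node (.node (.leaf 0) (.leaf 104)) (.node (.leaf 16) (.leaf 0))) (.node (.node (.leaf 0) (.leaf 0)) (.leaf 0))) (.node (.node (.node (.leaf 0) (.leaf 181)) (.leaf 0)) (.node (.node (.leaf 0) (.leaf 67)) (.leaf 0)))) (.node (.node (.node (.node (.leaf 122) (.leaf 39)) (.leaf 168)) (.node (.node (.leaf 96) (.leaf 0)) (.leaf 0))) (.node (.node (.node (.leaf 211) (.leaf 0)) (.leaf 0)) (.node (.node (.leaf 135) (.leaf 0))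 (.leaf 0))))))) (.node (.node (.node (.node (.node (.node (.node (.leaf 208) (.leaf 0)) (.node (.leaf 251) (.leaf 114))) (.node (.node (.leaf 85) (.leaf 0)) (.leaf 0))) (.node (.node (.node (.leaf 0) (.leaf 0)) (.leaf 0)) (.node (.node (.leaf 0) (.leaf 50)) (.leaf 0)))) (.node (.node (.node (.node (.leaf 97) (.leaf 128)) (.node (.leaf 0) (.leaf 0))) (.node (.node (.leaf 248) (.leaf 0)) (.leaf 0))) (.node (.node (.node (.leaf 0) (.leaf 0)) (.leaf 10)) (.node (.node (.leaf 0) (.leaf 112)) (.leaf 152))))) (.node (.node (.node (.node (.node (.leaf 92) (.leaf 0)) (.node (.leaf 0) (.leaf 0))) (.node (.node (.leaf 0) (.leaf 126)) (.leaf 0))) (.node (.node (.node (.leaf 0) (.leaf 0)) (.leaf 0)) (.node (.node (.leaf 0) (.leaf 0)) (.leaf 0)))) (.node (.node (.node (.node (.leaf 0) (.leaf 162)) (.leaf 133)) (.node (.node (.leaf 91) (.leaf 0)) (.leaf 80))) (.node (.node (.node (.leaf 0) (.leaf 0)) (.leaf 128)) (.node (.node (.leaf 60) (.leaf 130)) (.leaf 0)))))) (.node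 (.node (.node (.node (.node (.node (.leaf 0) (.leaf 0)) (.node (.leaf 245) (.leaf 0))) (.node (.node (.leaf 0) (.leaf 152)) (.leaf 0))) (.node (.node (.node (.leaf 0) (.leaf 10)) (.leaf 222)) (.node (.node (.leaf 0) (.leaf 0)) (.leaf 0)))) (.node (.node (.node (.node (.leaf 0) (.leaf 119)) (.node (.leaf 0) (.leaf 0))) (.node (.node (.leaf 0) (.leaf 161)) (.leaf 277))) (.node (.node (.node (.leaf 0) (.leaf 0)) (.leaf 89)) (.node (.node (.leaf 246) (.leaf 0)) (.leaf 224))))) (.node (.node (.node (.node (.node (.leaf 17) (.leaf 0)) (.node (.leaf 0) (.leaf 0))) (.node (.node (.leaf 109) (.leaf 0)) (.leaf 0))) (.node (.node (.node (.leaf 0) (.leaf 0)) (.leaf 0)) (.node (.node (.leaf 0) (.leaf 0)) (.leaf 0)))) (.node (.node (.node (.node (.leaf 249) (.leaf 63)) (.leaf 0)) (.node (.node (.leaf 45) (.leaf 0)) (.leaf 0))) (.node (.node (.node (.leaf 0) (.leaf 0)) (.leaf 0)) (.node (.node (.leaf 0) (.leaf 179)) (.leaf 68)))))))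

/-- Part of `posT`. -/
def posT_p01011 : Tr := .node (.node (.node (.node (.node (.node (.node (.node (.leaf 208) (.leaf 35)) (.node (.leaf 0) (.leaf 0))) (.node (.node (.leaf 0) (.leaf 45)) (.leaf 0))) (.node (.node (.node (.leaf 0) (.leaf 0)) (.leaf 86)) (.node (.node (.leaf 0) (.leaf 82)) (.leaf 0)))) (.node (.node (.node (.node (.leaf 0) (.leaf 67)) (.node (.leaf 0) (.leaf 0))) (.node (.node (.leaf 0) (.leaf 0)) (.leaf 259))) (.node (.node (.node (.leaf 0) (.leaf 0)) (.leaf 0)) (.node (.node (.leaf 0) (.leaf 0)) (.leaf 71))))) (.node (.node (.node (.node (.node (.leaf 0) (.leaf 0)) (.node (.leaf 221) (.leaf 0))) (.node (.node (.leaf 0) (.leaf 0)) (.leaf 0))) (.node (.node (.node (.leaf 30) (.leaf 41)) (.leaf 234)) (.node (.node (.leaf 70) (.leaf 0)) (.leaf 0)))) (.node (.node (.node (.node (.leaf 0) (.leaf 0)) (.node (.leaf 0) (.leaf 0))) (.node (.node (.leaf 0) (.leaf 0)) (.leaf 0))) (.node (.node (.node (.leaf 0) (.leaf 0)) (.leaf 66)) (.node (.node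 (.leaf 104) (.leaf 184)) (.leaf 0)))))) (.node (.node (.node (.node (.node (.node (.leaf 0) (.leaf 0)) (.node (.leaf 235) (.leaf 0))) (.node (.node (.leaf 235) (.leaf 43)) (.leaf 0))) (.node (.node (.node (.leaf 0) (.leaf 0)) (.leaf 3)) (.node (.node (.leaf 50) (.leaf 0)) (.leaf 0)))) (.node (.node (.node (.node (.leaf 0) (.leaf 0)) (.node (.leaf 0) (.leaf 216))) (.node (.node (.leaf 267) (.leaf 0)) (.leaf 197))) (.node (.node (.node (.leaf 0) (.leaf 190)) (.leaf 0)) (.node (.node (.leaf 0) (.leaf 78)) (.leaf 279))))) (.node (.node (.node (.node (.node (.leaf 44) (.leaf 84)) (.node (.leaf 0) (.leaf 0))) (.node (.node (.leaf 18) (.leaf 247)) (.leaf 0))) (.node (.node (.node (.leaf 0) (.leaf 244)) (.leaf 0)) (.node (.node (.leaf 25) (.leaf 21)) (.leaf 0)))) (.node (.node (.node (.node (.leaf 0) (.leaf 0)) (.leaf 0)) (.node (.node (.leaf 0) (.leaf 0)) (.leaf 39))) (.node (.node (.node (.leaf 0) (.leaf 0)) (.leaf 82)) (.node (.node (.leaf 0) (.leaf 110)) (.leaf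 50))))))) (.node (.node (.node (.node (.node (.node (.node (.leaf 163) (.leaf 210)) (.node (.leaf 4) (.leaf 0))) (.node (.node (.leaf 0) (.leaf 0)) (.leaf 0))) (.node (.node (.node (.leaf 56) (.leaf 147)) (.leaf 190)) (.node (.node (.leaf 0) (.leaf 113)) (.leaf 0)))) (.node (.node (.node (.node (.leaf 0) (.leaf 21)) (.node (.leaf 0) (.leaf 0))) (.node (.node (.leaf 102) (.leaf 104)) (.leaf 0))) (.node (.node (.node (.leaf 0) (.leaf 0)) (.leaf 149)) (.node (.node (.leaf 0) (.leaf 0)) (.leaf 0))))) (.node (.node (.node (.node (.node (.leaf 122) (.leaf 0)) (.node (.leaf 0) (.leaf 0))) (.node (.node (.leaf 0) (.leaf 0)) (.leaf 0))) (.node (.node (.node (.leaf 127) (.leaf 0)) (.leaf 0)) (.node (.node (.leaf 0) (.leaf 0)) (.leaf 0)))) (.node (.node (.node (.node (.leaf 0) (.leaf 103)) (.leaf 0)) (.node (.node (.leaf 89) (.leaf 0)) (.leaf 0))) (.node (.node (.node (.leaf 0) (.leaf 0)) (.leaf 0)) (.node (.node (.leaf 0) (.leaf 0)) (.leaf 254)))))) (.node (.node (.node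 (.node (.node (.node (.leaf 0) (.leaf 0)) (.node (.leaf 276) (.leaf 159))) (.node (.node (.leaf 0) (.leaf 270)) (.leaf 176))) (.node (.node (.node (.leaf 122) (.leaf 65)) (.leaf 42)) (.node (.node (.leaf 0) (.leaf 0)) (.leaf 0)))) (.node (.node (.node (.node (.leaf 17) (.leaf 0)) (.node (.leaf 268) (.leaf 0))) (.node (.node (.leaf 194) (.leaf 0)) (.leaf 101))) (.node (.node (.node (.leaf 138) (.leaf 0)) (.leaf 0)) (.node (.node (.leaf 115) (.leaf 217)) (.leaf 261))))) (.node (.node (.node (.node (.node (.leaf 90) (.leaf 0)) (.node (.leaf 0) (.leaf 0))) (.node (.node (.leaf 0) (.leaf 0)) (.leaf 0))) (.node (.node (.node (.leaf 201) (.leaf 0)) (.leaf 0)) (.node (.node (.leaf 0) (.leaf 128)) (.leaf 0)))) (.node (.node (.node (.node (.leaf 127) (.leaf 0)) (.leaf 0)) (.node (.node (.leaf 66) (.leaf 261)) (.leaf 0))) (.node (.node (.node (.leaf 0) (.leaf 0)) (.leaf 184)) (.node (.node (.leaf 252) (.leaf 0)) (.leaf 0)))))))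

/-- Part of `posT`. -/
def posT_p01100 : Tr := .node (.node (.node (.node (.node (.node (.node (.node (.leaf 0) (.leaf 0)) (.node (.leaf 0) (.leaf 85))) (.node (.node (.leaf 0) (.leaf 0)) (.leaf 5))) (.node (.node (.node (.leaf 0) (.leaf 0)) (.leaf 0)) (.node (.node (.leaf 180) (.leaf 0)) (.leaf 0)))) (.node (.node (.node (.node (.leaf 214) (.leaf 0)) (.node (.leaf 0) (.leaf 120))) (.node (.node (.leaf 141) (.leaf 0)) (.leaf 0))) (.node (.node (.node (.leaf 21) (.leaf 0)) (.leaf 0)) (.node (.node (.leaf 181) (.leaf 0)) (.leaf 74))))) (.node (.node (.node (.node (.node (.leaf 0) (.leaf 0)) (.node (.leaf 0) (.leaf 0))) (.node (.node (.leaf 0) (.leaf 0)) (.leaf 76))) (.node (.node (.node (.leaf 94) (.leaf 0)) (.leaf 0)) (.node (.node (.leaf 216) (.leaf 81)) (.leaf 0)))) (.node (.node (.node (.node (.leaf 0) (.leaf 0)) (.node (.leaf 0) (.leaf 0))) (.node (.node (.leaf 146) (.leaf 0)) (.leaf 0))) (.node (.node (.node (.leaf 0) (.leaf 0)) (.leaf 0)) (.node (.node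 (.leaf 0) (.leaf 0)) (.leaf 157)))))) (.node (.node (.node (.node (.node (.node (.leaf 0) (.leaf 11)) (.node (.leaf 0) (.leaf 0))) (.node (.node (.leaf 0) (.leaf 0)) (.leaf 272))) (.node (.node (.node (.leaf 0) (.leaf 0)) (.leaf 93)) (.node (.node (.leaf 52) (.leaf 0)) (.leaf 66)))) (.node (.node (.node (.node (.leaf 56) (.leaf 0)) (.node (.leaf 0) (.leaf 0))) (.node (.node (.leaf 0) (.leaf 98)) (.leaf 0))) (.node (.node (.node (.leaf 0) (.leaf 0)) (.leaf 265)) (.node (.node (.leaf 0) (.leaf 0)) (.leaf 189))))) (.node (.node (.node (.node (.node (.leaf 24) (.leaf 0)) (.node (.leaf 0) (.leaf 0))) (.node (.node (.leaf 0) (.leaf 0)) (.leaf 138))) (.node (.node (.node (.leaf 0) (.leaf 0)) (.leaf 0)) (.node (.node (.leaf 0) (.leaf 0)) (.leaf 0)))) (.node (.node (.node (.node (.leaf 219) (.leaf 0)) (.leaf 0)) (.node (.node (.leaf 193) (.leaf 0)) (.leaf 0))) (.node (.node (.node (.leaf 0) (.leaf 0)) (.leaf 233)) (.node (.node (.leaf 0) (.leaf 0)) (.leaf 0))))))) (.node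 (.node (.node (.node (.node (.node (.node (.leaf 269) (.leaf 0)) (.node (.leaf 218) (.leaf 0))) (.node (.node (.leaf 0) (.leaf 0)) (.leaf 187))) (.node (.node (.node (.leaf 0) (.leaf 0)) (.leaf 0)) (.node (.node (.leaf 0) (.leaf 0)) (.leaf 0)))) (.node (.node (.node (.node (.leaf 0) (.leaf 0)) (.node (.leaf 0) (.leaf 0))) (.node (.node (.leaf 209) (.leaf 0)) (.leaf 31))) (.node (.node (.node (.leaf 0) (.leaf 0)) (.leaf 0)) (.node (.node (.leaf 241) (.leaf 151)) (.leaf 0))))) (.node (.node (.node (.node (.node (.leaf 90) (.leaf 0)) (.node (.leaf 0) (.leaf 0))) (.node (.node (.leaf 0) (.leaf 0)) (.leaf 0))) (.node (.node (.node (.leaf 0) (.leaf 0)) (.leaf 232)) (.node (.node (.leaf 23) (.leaf 0)) (.leaf 0)))) (.node (.node (.node (.node (.leaf 0) (.leaf 0)) (.leaf 216)) (.node (.node (.leaf 241) (.leaf 0)) (.leaf 155))) (.node (.node (.node (.leaf 145) (.leaf 0)) (.leaf 0)) (.node (.node (.leaf 0) (.leaf 0)) (.leaf 0)))))) (.node (.node (.node (.node (.node (.node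 (.leaf 79) (.leaf 0)) (.node (.leaf 0) (.leaf 0))) (.node (.node (.leaf 54) (.leaf 231)) (.leaf 0))) (.node (.node (.node (.leaf 0) (.leaf 0)) (.leaf 0)) (.node (.node (.leaf 33) (.leaf 0)) (.leaf 95)))) (.node (.node (.node (.node (.leaf 0) (.leaf 0)) (.node (.leaf 0) (.leaf 0))) (.node (.node (.leaf 0) (.leaf 0)) (.leaf 0))) (.node (.node (.node (.leaf 0) (.leaf 255)) (.leaf 57)) (.node (.node (.leaf 156) (.leaf 0)) (.leaf 0))))) (.node (.node (.node (.node (.node (.leaf 0) (.leaf 143)) (.node (.leaf 0) (.leaf 0))) (.node (.node (.leaf 0) (.leaf 0)) (.leaf 0))) (.node (.node (.node (.leaf 0) (.leaf 204)) (.leaf 0)) (.node (.node (.leaf 0) (.leaf 0)) (.leaf 0)))) (.node (.node (.node (.node (.leaf 0) (.leaf 0)) (.leaf 158)) (.node (.node (.leaf 0) (.leaf 189)) (.leaf 0))) (.node (.node (.node (.leaf 0) (.leaf 0)) (.leaf 0)) (.node (.node (.leaf 0) (.leaf 0)) (.leaf 138)))))))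

/-- Part of `posT`. -/
def posT_p01101 : Tr := .node (.node (.node (.node (.node (.node (.node (.node (.leaf 274) (.leaf 0)) (.node (.leaf 0) (.leaf 69))) (.node (.node (.leaf 0) (.leaf 0)) (.leaf 215))) (.node (.node (.node (.leaf 0) (.leaf 0)) (.leaf 0)) (.node (.node (.leaf 0) (.leaf 140)) (.leaf 0)))) (.node (.node (.node (.node (.leaf 0) (.leaf 0)) (.node (.leaf 0) (.leaf 0))) (.node (.node (.leaf 0) (.leaf 0)) (.leaf 132))) (.node (.node (.node (.leaf 0) (.leaf 0)) (.leaf 0)) (.node (.node (.leaf 46) (.leaf 0)) (.leaf 0))))) (.node (.node (.node (.node (.node (.leaf 0) (.leaf 0)) (.node (.leaf 239) (.leaf 108))) (.node (.node (.leaf 0) (.leaf 0)) (.leaf 0))) (.node (.node (.node (.leaf 0) (.leaf 0)) (.leaf 0)) (.node (.node (.leaf 0) (.leaf 0)) (.leaf 0)))) (.node (.node (.node (.node (.leaf 92) (.leaf 0)) (.node (.leaf 0) (.leaf 0))) (.node (.node (.leaf 0) (.leaf 0)) (.leaf 0))) (.node (.node (.node (.leaf 8) (.leaf 93)) (.leaf 75)) (.node (.node (.leaf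 0) (.leaf 0)) (.leaf 81)))))) (.node (.node (.node (.node (.node (.node (.leaf 249) (.leaf 100)) (.node (.leaf 0) (.leaf 0))) (.node (.node (.leaf 0) (.leaf 264)) (.leaf 0))) (.node (.node (.node (.leaf 0) (.leaf 142)) (.leaf 0)) (.node (.node (.leaf 27) (.leaf 0)) (.leaf 0)))) (.node (.node (.node (.node (.leaf 22) (.leaf 0)) (.node (.leaf 131) (.leaf 0))) (.node (.node (.leaf 0) (.leaf 0)) (.leaf 0))) (.node (.node (.node (.leaf 171) (.leaf 0)) (.leaf 0)) (.node (.node (.leaf 0) (.leaf 187)) (.leaf 173))))) (.node (.node (.node (.node (.node (.leaf 0) (.leaf 0)) (.node (.leaf 0) (.leaf 0))) (.node (.node (.leaf 0) (.leaf 20)) (.leaf 0))) (.node (.node (.node (.leaf 0) (.leaf 0)) (.leaf 0)) (.node (.node (.leaf 141) (.leaf 0)) (.leaf 0)))) (.node (.node (.node (.node (.leaf 0) (.leaf 0)) (.leaf 0)) (.node (.node (.leaf 16) (.leaf 0)) (.leaf 0))) (.node (.node (.node (.leaf 0) (.leaf 0)) (.leaf 0)) (.node (.node (.leaf 0) (.leaf 0)) (.leaf 188))))))) (.node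 (.node (.node (.node (.node (.node (.node (.leaf 0) (.leaf 0)) (.node (.leaf 0) (.leaf 0))) (.node (.node (.leaf 3) (.leaf 226)) (.leaf 223))) (.node (.node (.node (.leaf 0) (.leaf 0)) (.leaf 260)) (.node (.node (.leaf 0) (.leaf 0)) (.leaf 0)))) (.node (.node (.node (.node (.leaf 0) (.leaf 0)) (.node (.leaf 36) (.leaf 132))) (.node (.node (.leaf 172) (.leaf 0)) (.leaf 0))) (.node (.node (.node (.leaf 0) (.leaf 0)) (.leaf 82)) (.node (.node (.leaf 183) (.leaf 0)) (.leaf 0))))) (.node (.node (.node (.node (.node (.leaf 125) (.leaf 0)) (.node (.leaf 0) (.leaf 0))) (.node (.node (.leaf 0) (.leaf 101)) (.leaf 0))) (.node (.node (.node (.leaf 0) (.leaf 0)) (.leaf 0)) (.node (.node (.leaf 0) (.leaf 40)) (.leaf 0)))) (.node (.node (.node (.node (.leaf 0) (.leaf 131)) (.leaf 0)) (.node (.node (.leaf 250) (.leaf 0)) (.leaf 0))) (.node (.node (.node (.leaf 0) (.leaf 0)) (.leaf 0)) (.node (.node (.leaf 0) (.leaf 0)) (.leaf 0)))))) (.node (.node (.node (.node (.node (.node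 (.leaf 0) (.leaf 0)) (.node (.leaf 0) (.leaf 0))) (.node (.node (.leaf 0) (.leaf 0)) (.leaf 91))) (.node (.node (.node (.leaf 0) (.leaf 0)) (.leaf 0)) (.node (.node (.leaf 0) (.leaf 0)) (.leaf 0)))) (.node (.node (.node (.node (.leaf 191) (.leaf 0)) (.node (.leaf 0) (.leaf 0))) (.node (.node (.leaf 0) (.leaf 0)) (.leaf 0))) (.node (.node (.node (.leaf 200) (.leaf 0)) (.leaf 37)) (.node (.node (.leaf 112) (.leaf 0)) (.leaf 0))))) (.node (.node (.node (.node (.node (.leaf 0) (.leaf 0)) (.node (.leaf 0) (.leaf 0))) (.node (.node (.leaf 0) (.leaf 0)) (.leaf 0))) (.node (.node (.node (.leaf 73) (.leaf 263)) (.leaf 0)) (.node (.node (.leaf 1) (.leaf 0)) (.leaf 91)))) (.node (.node (.node (.node (.leaf 0) (.leaf 0)) (.leaf 112)) (.node (.node (.leaf 0) (.leaf 0)) (.leaf 116))) (.node (.node (.node (.leaf 0) (.leaf 0)) (.leaf 279)) (.node (.node (.leaf 65) (.leaf 58)) (.leaf 9)))))))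

/-- Part of `posT`. -/
def posT_p01110 : Tr := .node (.node (.node (.node (.node (.node (.node (.node (.leaf 163) (.leaf 216)) (.node (.leaf 7) (.leaf 0))) (.node (.node (.leaf 0) (.leaf 0)) (.leaf 0))) (.node (.node (.node (.leaf 0) (.leaf 0)) (.leaf 0)) (.node (.node (.leaf 0) (.leaf 0)) (.leaf 0)))) (.node (.node (.node (.node (.leaf 0) (.leaf 0)) (.node (.leaf 202) (.leaf 83))) (.node (.node (.leaf 164) (.leaf 0)) (.leaf 83))) (.node (.node (.node (.leaf 0) (.leaf 9)) (.leaf 0)) (.node (.node (.leaf 0) (.leaf 75)) (.leaf 204))))) (.node (.node (.node (.node (.node (.leaf 0) (.leaf 0)) (.node (.leaf 0) (.leaf 0))) (.node (.node (.leaf 218) (.leaf 74)) (.leaf 0))) (.node (.node (.node (.leaf 90) (.leaf 0)) (.leaf 0)) (.node (.node (.leaf 0) (.leaf 0)) (.leaf 4)))) (.node (.node (.node (.node (.leaf 0) (.leaf 0)) (.node (.leaf 0) (.leaf 0))) (.node (.node (.leaf 0) (.leaf 72)) (.leaf 0))) (.node (.node (.node (.leaf 0) (.leaf 220)) (.leaf 0)) (.node (.node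 (.leaf 0) (.leaf 0)) (.leaf 0)))))) (.node (.node (.node (.node (.node (.node (.leaf 274) (.leaf 0)) (.node (.leaf 0) (.leaf 0))) (.node (.node (.leaf 0) (.leaf 176)) (.leaf 0))) (.node (.node (.node (.leaf 0) (.leaf 0)) (.leaf 220)) (.node (.node (.leaf 0) (.leaf 0)) (.leaf 0)))) (.node (.node (.node (.node (.leaf 0) (.leaf 226)) (.node (.leaf 0) (.leaf 0))) (.node (.node (.leaf 156) (.leaf 0)) (.leaf 0))) (.node (.node (.node (.leaf 0) (.leaf 0)) (.leaf 252)) (.node (.node (.leaf 0) (.leaf 0)) (.leaf 0))))) (.node (.node (.node (.node (.node (.leaf 0) (.leaf 0)) (.node (.leaf 0) (.leaf 43))) (.node (.node (.leaf 0) (.leaf 77)) (.leaf 0))) (.node (.node (.node (.leaf 191) (.leaf 194)) (.leaf 0)) (.node (.node (.leaf 164) (.leaf 250)) (.leaf 137)))) (.node (.node (.node (.node (.leaf 0) (.leaf 0)) (.leaf 70)) (.node (.node (.leaf 221) (.leaf 0)) (.leaf 0))) (.node (.node (.node (.leaf 119) (.leaf 267)) (.leaf 224)) (.node (.node (.leaf 31) (.leaf 0)) (.leaf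 0))))))) (.node (.node (.node (.node (.node (.node (.node (.leaf 208) (.leaf 0)) (.node (.leaf 278) (.leaf 0))) (.node (.node (.leaf 62) (.leaf 0)) (.leaf 0))) (.node (.node (.node (.leaf 22) (.leaf 0)) (.leaf 255)) (.node (.node (.leaf 147) (.leaf 188)) (.leaf 0)))) (.node (.node (.node (.node (.leaf 0) (.leaf 95)) (.node (.leaf 105) (.leaf 0))) (.node (.node (.leaf 0) (.leaf 0)) (.leaf 0))) (.node (.node (.node (.leaf 0) (.leaf 138)) (.leaf 0)) (.node (.node (.leaf 0) (.leaf 0)) (.leaf 0))))) (.node (.node (.node (.node (.node (.leaf 97) (.leaf 0)) (.node (.leaf 0) (.leaf 1))) (.node (.node (.leaf 149) (.leaf 0)) (.leaf 0))) (.node (.node (.node (.leaf 0) (.leaf 0)) (.leaf 0)) (.node (.node (.leaf 15) (.leaf 198)) (.leaf 77)))) (.node (.node (.node (.node (.leaf 0) (.leaf 87)) (.leaf 0)) (.node (.node (.leaf 0) (.leaf 0)) (.leaf 254))) (.node (.node (.node (.leaf 0) (.leaf 158)) (.leaf 0)) (.node (.node (.leaf 0) (.leaf 0)) (.leaf 40)))))) (.node (.node (.node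 (.node (.node (.node (.leaf 242) (.leaf 78)) (.node (.leaf 0) (.leaf 0))) (.node (.node (.leaf 0) (.leaf 196)) (.leaf 61))) (.node (.node (.node (.leaf 0) (.leaf 0)) (.leaf 276)) (.node (.node (.leaf 0) (.leaf 9)) (.leaf 226)))) (.node (.node (.node (.node (.leaf 0) (.leaf 0)) (.node (.leaf 0) (.leaf 113))) (.node (.node (.leaf 177) (.leaf 0)) (.leaf 0))) (.node (.node (.node (.leaf 133) (.leaf 0)) (.leaf 0)) (.node (.node (.leaf 206) (.leaf 0)) (.leaf 217))))) (.node (.node (.node (.node (.node (.leaf 0) (.leaf 0)) (.node (.leaf 18) (.leaf 76))) (.node (.node (.leaf 0) (.leaf 0)) (.leaf 0))) (.node (.node (.node (.leaf 47) (.leaf 0)) (.leaf 0)) (.node (.node (.leaf 0) (.leaf 0)) (.leaf 0)))) (.node (.node (.node (.node (.leaf 56) (.leaf 40)) (.leaf 100)) (.node (.node (.leaf 75) (.leaf 28)) (.leaf 0))) (.node (.node (.node (.leaf 0) (.leaf 0)) (.leaf 0)) (.node (.node (.leaf 0) (.leaf 247)) (.leaf 154)))))))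

/-- Part of `posT`. -/
def posT_p01111 : Tr := .node (.node (.node (.node (.node (.node (.node (.node (.leaf 0) (.leaf 0)) (.node (.leaf 0) (.leaf 0))) (.node (.node (.leaf 0) (.leaf 0)) (.leaf 0))) (.node (.node (.node (.leaf 219) (.leaf 0)) (.leaf 0)) (.node (.node (.leaf 42) (.leaf 173)) (.leaf 0)))) (.node (.node (.node (.node (.leaf 0) (.leaf 57)) (.node (.leaf 0) (.leaf 0))) (.node (.node (.leaf 271) (.leaf 0)) (.leaf 0))) (.node (.node (.node (.leaf 0) (.leaf 0)) (.leaf 0)) (.node (.node (.leaf 0) (.leaf 0)) (.leaf 0))))) (.node (.node (.node (.node (.node (.leaf 0) (.leaf 0)) (.node (.leaf 201) (.leaf 0))) (.node (.node (.leaf 278) (.leaf 277)) (.leaf 0))) (.node (.node (.node (.leaf 0) (.leaf 0)) (.leaf 0)) (.node (.node (.leaf 0) (.leaf 0)) (.leaf 110)))) (.node (.node (.node (.node (.leaf 17) (.leaf 0)) (.node (.leaf 0) (.leaf 0))) (.node (.node (.leaf 46) (.leaf 0)) (.leaf 0))) (.node (.node (.node (.leaf 0) (.leaf 5)) (.leaf 0)) (.node (.node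 (.leaf 120) (.leaf 0)) (.leaf 198)))))) (.node (.node (.node (.node (.node (.node (.leaf 0) (.leaf 112)) (.node (.leaf 0) (.leaf 0))) (.node (.node (.leaf 118) (.leaf 0)) (.leaf 0))) (.node (.node (.node (.leaf 0) (.leaf 0)) (.leaf 229)) (.node (.node (.leaf 0) (.leaf 154)) (.leaf 0)))) (.node (.node (.node (.node (.leaf 0) (.leaf 37)) (.node (.leaf 87) (.leaf 0))) (.node (.node (.leaf 206) (.leaf 0)) (.leaf 0))) (.node (.node (.node (.leaf 168) (.leaf 260)) (.leaf 251)) (.node (.node (.leaf 100) (.leaf 223)) (.leaf 140))))) (.node (.node (.node (.node (.node (.leaf 191) (.leaf 0)) (.node (.leaf 111) (.leaf 14))) (.node (.node (.leaf 0) (.leaf 0)) (.leaf 0))) (.node (.node (.node (.leaf 67) (.leaf 91)) (.leaf 0)) (.node (.node (.leaf 0) (.leaf 0)) (.leaf 0)))) (.node (.node (.node (.node (.leaf 0) (.leaf 0)) (.leaf 0)) (.node (.node (.leaf 0) (.leaf 0)) (.leaf 0))) (.node (.node (.node (.leaf 2) (.leaf 212)) (.leaf 0)) (.node (.node (.leaf 207) (.leaf 126))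 (.leaf 59))))))) (.node (.node (.node (.node (.node (.node (.node (.leaf 269) (.leaf 0)) (.node (.leaf 0) (.leaf 0))) (.node (.node (.leaf 0) (.leaf 95)) (.leaf 0))) (.node (.node (.node (.leaf 0) (.leaf 211)) (.leaf 0)) (.node (.node (.leaf 0) (.leaf 59)) (.leaf 89)))) (.node (.node (.node (.node (.leaf 0) (.leaf 0)) (.node (.leaf 0) (.leaf 31))) (.node (.node (.leaf 86) (.leaf 259)) (.leaf 0))) (.node (.node (.node (.leaf 0) (.leaf 0)) (.leaf 0)) (.node (.node (.leaf 0) (.leaf 205)) (.leaf 28))))) (.node (.node (.node (.node (.node (.leaf 225) (.leaf 0)) (.node (.leaf 0) (.leaf 61))) (.node (.node (.leaf 0) (.leaf 0)) (.leaf 0))) (.node (.node (.node (.leaf 24) (.leaf 0)) (.leaf 148)) (.node (.node (.leaf 0) (.leaf 0)) (.leaf 20)))) (.node (.node (.node (.node (.leaf 94) (.leaf 157)) (.leaf 0)) (.node (.node (.leaf 106) (.leaf 0)) (.leaf 0))) (.node (.node (.node (.leaf 234) (.leaf 248)) (.leaf 0)) (.node (.node (.leaf 0) (.leaf 0)) (.leaf 0)))))) (.node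 (.node (.node (.node (.node (.node (.leaf 30) (.leaf 114)) (.node (.leaf 0) (.leaf 123))) (.node (.node (.leaf 230) (.leaf 26)) (.leaf 204))) (.node (.node (.node (.leaf 219) (.leaf 0)) (.leaf 0)) (.node (.node (.leaf 0) (.leaf 157)) (.leaf 0)))) (.node (.node (.node (.node (.leaf 0) (.leaf 0)) (.node (.leaf 0) (.leaf 0))) (.node (.node (.leaf 0) (.leaf 0)) (.leaf 0))) (.node (.node (.node (.leaf 178) (.leaf 0)) (.leaf 0)) (.node (.node (.leaf 0) (.leaf 0)) (.leaf 130))))) (.node (.node (.node (.node (.node (.leaf 238) (.leaf 99)) (.node (.leaf 0) (.leaf 0))) (.node (.node (.leaf 0) (.leaf 0)) (.leaf 120))) (.node (.node (.node (.leaf 0) (.leaf 188)) (.leaf 0)) (.node (.node (.leaf 0) (.leaf 16)) (.leaf 26)))) (.node (.node (.node (.node (.leaf 94) (.leaf 202)) (.leaf 212)) (.node (.node (.leaf 0) (.leaf 0)) (.leaf 0))) (.node (.node (.node (.leaf 207) (.leaf 0)) (.leaf 49)) (.node (.node (.leaf 0) (.leaf 0)) (.leaf 0)))))))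

/-- Part of `posT`. -/
def posT_p10000 : Tr := .node (.node (.node (.node (.node (.node (.node (.node (.leaf 0) (.leaf 0)) (.node (.leaf 0) (.leaf 0))) (.node (.node (.leaf 161) (.leaf 66)) (.leaf 0))) (.node (.node (.node (.leaf 0) (.leaf 0)) (.leaf 0)) (.node (.node (.leaf 0) (.leaf 0)) (.leaf 142)))) (.node (.node (.node (.node (.leaf 0) (.leaf 135)) (.node (.leaf 0) (.leaf 0))) (.node (.node (.leaf 0) (.leaf 115)) (.leaf 119))) (.node (.node (.node (.leaf 0) (.leaf 0)) (.leaf 0)) (.node (.node (.leaf 0) (.leaf 0)) (.leaf 183))))) (.node (.node (.node (.node (.node (.leaf 0) (.leaf 0)) (.node (.leaf 0) (.leaf 15))) (.node (.node (.leaf 0) (.leaf 177)) (.leaf 177))) (.node (.node (.node (.leaf 0) (.leaf 233)) (.leaf 0)) (.node (.node (.leaf 0) (.leaf 63)) (.leaf 53)))) (.node (.node (.node (.node (.leaf 0) (.leaf 0)) (.node (.leaf 27) (.leaf 0))) (.node (.node (.leaf 152) (.leaf 0)) (.leaf 0))) (.node (.node (.node (.leaf 180) (.leaf 0)) (.leaf 0)) (.node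 (.node (.leaf 223) (.leaf 262)) (.leaf 0)))))) (.node (.node (.node (.node (.node (.node (.leaf 208) (.leaf 0)) (.node (.leaf 0) (.leaf 0))) (.node (.node (.leaf 0) (.leaf 0)) (.leaf 212))) (.node (.node (.node (.leaf 0) (.leaf 0)) (.leaf 0)) (.node (.node (.leaf 0) (.leaf 0)) (.leaf 0)))) (.node (.node (.node (.node (.leaf 0) (.leaf 0)) (.node (.leaf 0) (.leaf 0))) (.node (.node (.leaf 0) (.leaf 0)) (.leaf 2))) (.node (.node (.node (.leaf 0) (.leaf 0)) (.leaf 153)) (.node (.node (.leaf 43) (.leaf 0)) (.leaf 41))))) (.node (.node (.node (.node (.node (.leaf 0) (.leaf 0)) (.node (.leaf 0) (.leaf 0))) (.node (.node (.leaf 23) (.leaf 3)) (.leaf 0))) (.node (.node (.node (.leaf 0) (.leaf 74)) (.leaf 116)) (.node (.node (.leaf 0) (.leaf 0)) (.leaf 165)))) (.node (.node (.node (.node (.leaf 238) (.leaf 18)) (.leaf 68)) (.node (.node (.leaf 47) (.leaf 0)) (.leaf 0))) (.node (.node (.node (.leaf 69) (.leaf 205)) (.leaf 0)) (.node (.node (.leaf 132) (.leaf 0)) (.leaf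 0))))))) (.node (.node (.node (.node (.node (.node (.node (.leaf 0) (.leaf 0)) (.node (.leaf 0) (.leaf 148))) (.node (.node (.leaf 0) (.leaf 124)) (.leaf 0))) (.node (.node (.node (.leaf 0) (.leaf 0)) (.leaf 0)) (.node (.node (.leaf 0) (.leaf 0)) (.leaf 0)))) (.node (.node (.node (.node (.leaf 0) (.leaf 201)) (.node (.leaf 0) (.leaf 0))) (.node (.node (.leaf 107) (.leaf 0)) (.leaf 0))) (.node (.node (.node (.leaf 16) (.leaf 0)) (.leaf 184)) (.node (.node (.leaf 0) (.leaf 0)) (.leaf 181))))) (.node (.node (.node (.node (.node (.leaf 0) (.leaf 34)) (.node (.leaf 0) (.leaf 0))) (.node (.node (.leaf 262) (.leaf 54)) (.leaf 194))) (.node (.node (.node (.leaf 0) (.leaf 0)) (.leaf 0)) (.node (.node (.leaf 144) (.leaf 0)) (.leaf 0)))) (.node (.node (.node (.node (.leaf 0) (.leaf 0)) (.leaf 0)) (.node (.node (.leaf 71) (.leaf 234)) (.leaf 0))) (.node (.node (.node (.leaf 0) (.leaf 0)) (.leaf 0)) (.node (.node (.leaf 2) (.leaf 0)) (.leaf 0)))))) (.node (.node (.node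 (.node (.node (.node (.leaf 0) (.leaf 115)) (.node (.leaf 58) (.leaf 23))) (.node (.node (.leaf 0) (.leaf 0)) (.leaf 0))) (.node (.node (.node (.leaf 0) (.leaf 0)) (.leaf 277)) (.node (.node (.leaf 0) (.leaf 0)) (.leaf 0)))) (.node (.node (.node (.node (.leaf 0) (.leaf 0)) (.node (.leaf 98) (.leaf 0))) (.node (.node (.leaf 1) (.leaf 0)) (.leaf 93))) (.node (.node (.node (.leaf 0) (.leaf 0)) (.leaf 233)) (.node (.node (.leaf 273) (.leaf 0)) (.leaf 0))))) (.node (.node (.node (.node (.node (.leaf 30) (.leaf 268)) (.node (.leaf 0) (.leaf 150))) (.node (.node (.leaf 0) (.leaf 0)) (.leaf 171))) (.node (.node (.node (.leaf 250) (.leaf 0)) (.leaf 199)) (.node (.node (.leaf 0) (.leaf 0)) (.leaf 0)))) (.node (.node (.node (.node (.leaf 214) (.leaf 198)) (.leaf 0)) (.node (.node (.leaf 0) (.leaf 0)) (.leaf 0))) (.node (.node (.node (.leaf 0) (.leaf 0)) (.leaf 0)) (.node (.node (.leaf 0) (.leaf 229)) (.leaf 144)))))))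

/-- Part of `posT`. -/
def posT_p10001 : Tr := .node (.node (.node (.node (.node (.node (.node (.node (.leaf 274) (.leaf 13)) (.node (.leaf 0) (.leaf 180))) (.node (.node (.leaf 0) (.leaf 0)) (.leaf 0))) (.node (.node (.node (.leaf 0) (.leaf 0)) (.leaf 210)) (.node (.node (.leaf 0) (.leaf 0)) (.leaf 0)))) (.node (.node (.node (.node (.leaf 125) (.leaf 0)) (.node (.leaf 159) (.leaf 0))) (.node (.node (.leaf 0) (.leaf 209)) (.leaf 131))) (.node (.node (.node (.leaf 221) (.leaf 0)) (.leaf 0)) (.node (.node (.leaf 0) (.leaf 0)) (.leaf 0))))) (.node (.node (.node (.node (.node (.leaf 0) (.leaf 52)) (.node (.leaf 0) (.leaf 0))) (.node (.node (.leaf 261) (.leaf 4)) (.leaf 146))) (.node (.node (.node (.leaf 22) (.leaf 0)) (.leaf 0)) (.node (.node (.leaf 0) (.leaf 0)) (.leaf 0)))) (.node (.node (.node (.node (.leaf 79) (.leaf 0)) (.node (.leaf 0) (.leaf 0))) (.node (.node (.leaf 270) (.leaf 0)) (.leaf 0))) (.node (.node (.node (.leaf 0) (.leaf 0)) (.leaf 0)) (.node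 (.node (.leaf 175) (.leaf 252)) (.leaf 0)))))) (.node (.node (.node (.node (.node (.node (.leaf 0) (.leaf 273)) (.node (.leaf 165) (.leaf 0))) (.node (.node (.leaf 0) (.leaf 244)) (.leaf 248))) (.node (.node (.node (.leaf 0) (.leaf 0)) (.leaf 0)) (.node (.node (.leaf 0) (.leaf 0)) (.leaf 0)))) (.node (.node (.node (.node (.leaf 0) (.leaf 0)) (.node (.leaf 0) (.leaf 0))) (.node (.node (.leaf 151) (.leaf 135)) (.leaf 0))) (.node (.node (.node (.leaf 0) (.leaf 0)) (.leaf 49)) (.node (.node (.leaf 0) (.leaf 0)) (.leaf 0))))) (.node (.node (.node (.node (.node (.leaf 0) (.leaf 162)) (.node (.leaf 0) (.leaf 146))) (.node (.node (.leaf 15) (.leaf 62)) (.leaf 0))) (.node (.node (.node (.leaf 0) (.leaf 26)) (.leaf 0)) (.node (.node (.leaf 108) (.leaf 37)) (.leaf 0)))) (.node (.node (.node (.node (.leaf 0) (.leaf 0)) (.leaf 0)) (.node (.node (.leaf 0) (.leaf 0)) (.leaf 0))) (.node (.node (.node (.leaf 0) (.leaf 210)) (.leaf 0)) (.node (.node (.leaf 0) (.leaf 276)) (.leaf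 0))))))) (.node (.node (.node (.node (.node (.node (.node (.leaf 0) (.leaf 175)) (.node (.leaf 0) (.leaf 0))) (.node (.node (.leaf 0) (.leaf 0)) (.leaf 0))) (.node (.node (.node (.leaf 0) (.leaf 116)) (.leaf 179)) (.node (.node (.leaf 0) (.leaf 200)) (.leaf 0)))) (.node (.node (.node (.node (.leaf 0) (.leaf 0)) (.node (.leaf 0) (.leaf 0))) (.node (.node (.leaf 0) (.leaf 0)) (.leaf 87))) (.node (.node (.node (.leaf 0) (.leaf 68)) (.leaf 0)) (.node (.node (.leaf 76) (.leaf 0)) (.leaf 0))))) (.node (.node (.node (.node (.node (.leaf 79) (.leaf 0)) (.node (.leaf 0) (.leaf 0))) (.node (.node (.leaf 0) (.leaf 118)) (.leaf 0))) (.node (.node (.node (.leaf 97) (.leaf 0)) (.leaf 0)) (.node (.node (.leaf 0) (.leaf 0)) (.leaf 222)))) (.node (.node (.node (.node (.leaf 0) (.leaf 0)) (.leaf 0)) (.node (.node (.leaf 0) (.leaf 6)) (.leaf 0))) (.node (.node (.node (.leaf 42) (.leaf 0)) (.leaf 47)) (.node (.node (.leaf 0) (.leaf 0)) (.leaf 0)))))) (.node (.node (.node (.node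 (.node (.node (.leaf 0) (.leaf 257)) (.node (.leaf 0) (.leaf 203))) (.node (.node (.leaf 0) (.leaf 0)) (.leaf 263))) (.node (.node (.node (.leaf 0) (.leaf 173)) (.leaf 0)) (.node (.node (.leaf 0) (.leaf 0)) (.leaf 236)))) (.node (.node (.node (.node (.leaf 0) (.leaf 0)) (.node (.leaf 259) (.leaf 171))) (.node (.node (.leaf 199) (.leaf 0)) (.leaf 62))) (.node (.node (.node (.leaf 19) (.leaf 0)) (.leaf 0)) (.node (.node (.leaf 187) (.leaf 0)) (.leaf 65))))) (.node (.node (.node (.node (.node (.leaf 0) (.leaf 0)) (.node (.leaf 0) (.leaf 0))) (.node (.node (.leaf 203) (.leaf 0)) (.leaf 0))) (.node (.node (.node (.leaf 106) (.leaf 0)) (.leaf 264)) (.node (.node (.leaf 123) (.leaf 106)) (.leaf 0)))) (.node (.node (.node (.node (.leaf 214) (.leaf 0)) (.leaf 107)) (.node (.node (.leaf 21) (.leaf 0)) (.leaf 178))) (.node (.node (.node (.leaf 0) (.leaf 89)) (.leaf 0)) (.node (.node (.leaf 0) (.leaf 0)) (.leaf 0)))))))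

/-- Part of `posT`. -/
def posT_p10010 : Tr := .node (.node (.node (.node (.node (.node (.node (.node (.leaf 0) (.leaf 213)) (.node (.leaf 279) (.leaf 62))) (.node (.node (.leaf 0) (.leaf 0)) (.leaf 0))) (.node (.node (.node (.leaf 0) (.leaf 0)) (.leaf 205)) (.node (.node (.leaf 178) (.leaf 0)) (.leaf 211)))) (.node (.node (.node (.node (.leaf 0) (.leaf 0)) (.node (.leaf 0) (.leaf 135))) (.node (.node (.leaf 0) (.leaf 257)) (.leaf 0))) (.node (.node (.node (.leaf 0) (.leaf 0)) (.leaf 0)) (.node (.node (.leaf 0) (.leaf 0)) (.leaf 46))))) (.node (.node (.node (.node (.node (.leaf 225) (.leaf 147)) (.node (.leaf 0) (.leaf 0))) (.node (.node (.leaf 0) (.leaf 150)) (.leaf 0))) (.node (.node (.node (.leaf 56) (.leaf 189)) (.leaf 0)) (.node (.node (.leaf 213) (.leaf 0)) (.leaf 201)))) (.node (.node (.node (.node (.leaf 0) (.leaf 0)) (.node (.leaf 0) (.leaf 200))) (.node (.node (.leaf 0) (.leaf 182)) (.leaf 0))) (.node (.node (.node (.leaf 0) (.leaf 0)) (.leaf 0))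 (.node (.node (.leaf 215) (.leaf 265)) (.leaf 111)))))) (.node (.node (.node (.node (.node (.node (.leaf 269) (.leaf 156)) (.node (.leaf 0) (.leaf 0))) (.node (.node (.leaf 0) (.leaf 0)) (.leaf 0))) (.node (.node (.node (.leaf 17) (.leaf 0)) (.leaf 0)) (.node (.node (.leaf 116) (.leaf 0)) (.leaf 0)))) (.node (.node (.node (.node (.leaf 0) (.leaf 0)) (.node (.leaf 0) (.leaf 0))) (.node (.node (.leaf 0) (.leaf 0)) (.leaf 0))) (.node (.node (.node (.leaf 0) (.leaf 19)) (.leaf 0)) (.node (.node (.leaf 0) (.leaf 246)) (.leaf 7))))) (.node (.node (.node (.node (.node (.leaf 0) (.leaf 105)) (.node (.leaf 0) (.leaf 0))) (.node (.node (.leaf 0) (.leaf 0)) (.leaf 200))) (.node (.node (.node (.leaf 0) (.leaf 0)) (.leaf 0)) (.node (.node (.leaf 0) (.leaf 57)) (.leaf 240)))) (.node (.node (.node (.node (.leaf 237) (.leaf 0)) (.leaf 0)) (.node (.node (.leaf 0) (.leaf 0)) (.leaf 0))) (.node (.node (.node (.leaf 0) (.leaf 0)) (.leaf 0)) (.node (.node (.leaf 83) (.leaf 245))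 (.leaf 18))))))) (.node (.node (.node (.node (.node (.node (.node (.leaf 0) (.leaf 0)) (.node (.leaf 233) (.leaf 232))) (.node (.node (.leaf 0) (.leaf 0)) (.leaf 267))) (.node (.node (.node (.leaf 0) (.leaf 0)) (.leaf 0)) (.node (.node (.leaf 0) (.leaf 0)) (.leaf 0)))) (.node (.node (.node (.node (.leaf 0) (.leaf 239)) (.node (.leaf 80) (.leaf 0))) (.node (.node (.leaf 205) (.leaf 0)) (.leaf 0))) (.node (.node (.node (.leaf 0) (.leaf 0)) (.leaf 130)) (.node (.node (.leaf 61) (.leaf 115)) (.leaf 12))))) (.node (.node (.node (.node (.node (.leaf 249) (.leaf 0)) (.node (.leaf 193) (.leaf 0))) (.node (.node (.leaf 174) (.leaf 0)) (.leaf 0))) (.node (.node (.node (.leaf 0) (.leaf 0)) (.leaf 0)) (.node (.node (.leaf 0) (.leaf 0)) (.leaf 0)))) (.node (.node (.node (.node (.leaf 0) (.leaf 0)) (.leaf 19)) (.node (.node (.leaf 0) (.leaf 0)) (.leaf 0))) (.node (.node (.node (.leaf 0) (.leaf 0)) (.leaf 0)) (.node (.node (.leaf 0) (.leaf 0)) (.leaf 0)))))) (.node (.node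 (.node (.node (.node (.node (.leaf 97) (.leaf 0)) (.node (.leaf 240) (.leaf 25))) (.node (.node (.leaf 0) (.leaf 0)) (.leaf 0))) (.node (.node (.node (.leaf 32) (.leaf 0)) (.leaf 197)) (.node (.node (.leaf 0) (.leaf 0)) (.leaf 239)))) (.node (.node (.node (.node (.leaf 0) (.leaf 105)) (.node (.leaf 0) (.leaf 0))) (.node (.node (.leaf 0) (.leaf 0)) (.leaf 54))) (.node (.node (.node (.leaf 0) (.leaf 0)) (.leaf 0)) (.node (.node (.leaf 272) (.leaf 0)) (.leaf 0))))) (.node (.node (.node (.node (.node (.leaf 0) (.leaf 36)) (.node (.leaf 0) (.leaf 244))) (.node (.node (.leaf 0) (.leaf 0)) (.leaf 0))) (.node (.node (.node (.leaf 0) (.leaf 199)) (.leaf 71)) (.node (.node (.leaf 155) (.leaf 0)) (.leaf 0)))) (.node (.node (.node (.node (.leaf 0) (.leaf 81)) (.leaf 78)) (.node (.node (.leaf 73) (.leaf 0)) (.leaf 0))) (.node (.node (.node (.leaf 0) (.leaf 151)) (.leaf 0)) (.node (.node (.leaf 0) (.leaf 235)) (.leaf 0)))))))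

/-- Part of `posT`. -/
def posT_p10011 : Tr := .node (.node (.node (.node (.node (.node (.node (.node (.leaf 163) (.leaf 0)) (.node (.leaf 224) (.leaf 0))) (.node (.node (.leaf 84) (.leaf 0)) (.leaf 0))) (.node (.node (.node (.leaf 0) (.leaf 0)) (.leaf 11)) (.node (.node (.leaf 0) (.leaf 0)) (.leaf 8)))) (.node (.node (.node (.node (.leaf 0) (.leaf 0)) (.node (.leaf 0) (.leaf 0))) (.node (.node (.leaf 0) (.leaf 0)) (.leaf 0))) (.node (.node (.node (.leaf 0) (.leaf 0)) (.leaf 0)) (.node (.node (.leaf 14) (.leaf 5)) (.leaf 241))))) (.node (.node (.node (.node (.node (.leaf 24) (.leaf 0)) (.node (.leaf 0) (.leaf 63))) (.node (.node (.leaf 0) (.leaf 0)) (.leaf 150))) (.node (.node (.node (.leaf 0) (.leaf 0)) (.leaf 69)) (.node (.node (.leaf 0) (.leaf 0)) (.leaf 0)))) (.node (.node (.node (.node (.leaf 0) (.leaf 136)) (.node (.leaf 33) (.leaf 0))) (.node (.node (.leaf 0) (.leaf 145)) (.leaf 0))) (.node (.node (.node (.leaf 0) (.leaf 0)) (.leaf 73)) (.node (.node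 (.leaf 119) (.leaf 174)) (.leaf 164)))))) (.node (.node (.node (.node (.node (.node (.leaf 90) (.leaf 0)) (.node (.leaf 247) (.leaf 0))) (.node (.node (.leaf 0) (.leaf 146)) (.leaf 0))) (.node (.node (.node (.leaf 0) (.leaf 69)) (.leaf 0)) (.node (.node (.leaf 0) (.leaf 0)) (.leaf 0)))) (.node (.node (.node (.node (.leaf 0) (.leaf 0)) (.node (.leaf 99) (.leaf 0))) (.node (.node (.leaf 210) (.leaf 0)) (.leaf 0))) (.node (.node (.node (.leaf 0) (.leaf 0)) (.leaf 0)) (.node (.node (.leaf 0) (.leaf 257)) (.leaf 0))))) (.node (.node (.node (.node (.node (.leaf 242) (.leaf 136)) (.node (.leaf 0) (.leaf 0))) (.node (.node (.leaf 0) (.leaf 0)) (.leaf 0))) (.node (.node (.node (.leaf 0) (.leaf 117)) (.leaf 231)) (.node (.node (.leaf 254) (.leaf 0)) (.leaf 190)))) (.node (.node (.node (.node (.leaf 227) (.leaf 0)) (.leaf 0)) (.node (.node (.leaf 0) (.leaf 0)) (.leaf 0))) (.node (.node (.node (.leaf 0) (.leaf 107)) (.leaf 0)) (.node (.node (.leaf 0) (.leaf 0)) (.leaf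 195))))))) (.node (.node (.node (.node (.node (.node (.node (.leaf 0) (.leaf 206)) (.node (.leaf 0) (.leaf 42))) (.node (.node (.leaf 0) (.leaf 0)) (.leaf 158))) (.node (.node (.node (.leaf 92) (.leaf 0)) (.leaf 101)) (.node (.node (.leaf 8) (.leaf 171)) (.leaf 0)))) (.node (.node (.node (.node (.leaf 0) (.leaf 0)) (.node (.leaf 0) (.leaf 0))) (.node (.node (.leaf 0) (.leaf 0)) (.leaf 0))) (.node (.node (.node (.leaf 0) (.leaf 0)) (.leaf 217)) (.node (.node (.leaf 0) (.leaf 102)) (.leaf 0))))) (.node (.node (.node (.node (.node (.leaf 0) (.leaf 0)) (.node (.leaf 0) (.leaf 0))) (.node (.node (.leaf 88) (.leaf 0)) (.leaf 0))) (.node (.node (.node (.leaf 225) (.leaf 12)) (.leaf 0)) (.node (.node (.leaf 0) (.leaf 0)) (.leaf 0)))) (.node (.node (.node (.node (.leaf 0) (.leaf 111)) (.leaf 0)) (.node (.node (.leaf 67) (.leaf 0)) (.leaf 63))) (.node (.node (.node (.leaf 0) (.leaf 0)) (.leaf 0)) (.node (.node (.leaf 0) (.leaf 0)) (.leaf 141)))))) (.node (.node (.node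 (.node (.node (.node (.leaf 0) (.leaf 48)) (.node (.leaf 0) (.leaf 109))) (.node (.node (.leaf 0) (.leaf 0)) (.leaf 244))) (.node (.node (.node (.leaf 0) (.leaf 49)) (.leaf 0)) (.node (.node (.leaf 0) (.leaf 0)) (.leaf 0)))) (.node (.node (.node (.node (.leaf 242) (.leaf 36)) (.node (.leaf 143) (.leaf 0))) (.node (.node (.leaf 0) (.leaf 0)) (.leaf 260))) (.node (.node (.node (.leaf 68) (.leaf 0)) (.leaf 0)) (.node (.node (.leaf 0) (.leaf 0)) (.leaf 10))))) (.node (.node (.node (.node (.node (.leaf 0) (.leaf 0)) (.node (.leaf 0) (.leaf 177))) (.node (.node (.leaf 0) (.leaf 172)) (.leaf 0))) (.node (.node (.node (.leaf 0) (.leaf 71)) (.leaf 0)) (.node (.node (.leaf 0) (.leaf 221)) (.leaf 117)))) (.node (.node (.node (.node (.leaf 238) (.leaf 0)) (.leaf 151)) (.node (.node (.leaf 0) (.leaf 0)) (.leaf 0))) (.node (.node (.node (.leaf 0) (.leaf 0)) (.leaf 0)) (.node (.node (.leaf 49) (.leaf 54)) (.leaf 0)))))))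

/-- Part of `posT`. -/
def posT_p10100 : Tr := .node (.node (.node (.node (.node (.node (.node (.node (.leaf 0) (.leaf 0)) (.node (.leaf 0) (.leaf 20))) (.node (.node (.leaf 0) (.leaf 0)) (.leaf 0))) (.node (.node (.node (.leaf 0) (.leaf 141)) (.leaf 0)) (.node (.node (.leaf 48) (.leaf 256)) (.leaf 0)))) (.node (.node (.node (.node (.leaf 0) (.leaf 0)) (.node (.leaf 25) (.leaf 0))) (.node (.node (.leaf 64) (.leaf 29)) (.leaf 161))) (.node (.node (.node (.leaf 0) (.leaf 35)) (.leaf 0)) (.node (.node (.leaf 0) (.leaf 0)) (.leaf 150))))) (.node (.node (.node (.node (.node (.leaf 0) (.leaf 0)) (.node (.leaf 220) (.leaf 0))) (.node (.node (.leaf 49) (.leaf 243)) (.leaf 152))) (.node (.node (.node (.leaf 0) (.leaf 0)) (.leaf 0)) (.node (.node (.leaf 19) (.leaf 0)) (.leaf 0)))) (.node (.node (.node (.node (.leaf 0) (.leaf 0)) (.node (.leaf 0) (.leaf 0))) (.node (.node (.leaf 0) (.leaf 0)) (.leaf 129))) (.node (.node (.node (.leaf 0) (.leaf 0)) (.leaf 0)) (.node (.node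 (.leaf 158) (.leaf 0)) (.leaf 103)))))) (.node (.node (.node (.node (.node (.node (.leaf 163) (.leaf 134)) (.node (.leaf 0) (.leaf 170))) (.node (.node (.leaf 0) (.leaf 0)) (.leaf 0))) (.node (.node (.node (.leaf 0) (.leaf 0)) (.leaf 245)) (.node (.node (.leaf 0) (.leaf 0)) (.leaf 0)))) (.node (.node (.node (.node (.leaf 249) (.leaf 0)) (.node (.leaf 0) (.leaf 0))) (.node (.node (.leaf 0) (.leaf 0)) (.leaf 0))) (.node (.node (.node (.leaf 35) (.leaf 0)) (.leaf 0)) (.node (.node (.leaf 0) (.leaf 0)) (.leaf 0))))) (.node (.node (.node (.node (.node (.leaf 0) (.leaf 0)) (.node (.leaf 0) (.leaf 26))) (.node (.node (.leaf 103) (.leaf 0)) (.leaf 68))) (.node (.node (.node (.leaf 0) (.leaf 46)) (.leaf 0)) (.node (.node (.leaf 0) (.leaf 0)) (.leaf 0)))) (.node (.node (.node (.node (.leaf 0) (.leaf 0)) (.leaf 169)) (.node (.node (.leaf 236) (.leaf 0)) (.leaf 0))) (.node (.node (.node (.leaf 0) (.leaf 134)) (.leaf 262)) (.node (.node (.leaf 0) (.leaf 0)) (.leaf 0)))))))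 (.node (.node (.node (.node (.node (.node (.node (.leaf 163) (.leaf 0)) (.node (.leaf 0) (.leaf 0))) (.node (.node (.leaf 0) (.leaf 21)) (.leaf 210))) (.node (.node (.node (.leaf 17) (.leaf 0)) (.leaf 0)) (.node (.node (.leaf 0) (.leaf 0)) (.leaf 185)))) (.node (.node (.node (.node (.leaf 0) (.leaf 45)) (.node (.leaf 0) (.leaf 0))) (.node (.node (.leaf 0) (.leaf 0)) (.leaf 0))) (.node (.node (.node (.leaf 0) (.leaf 51)) (.leaf 0)) (.node (.node (.leaf 71) (.leaf 0)) (.leaf 0))))) (.node (.node (.node (.node (.node (.leaf 0) (.leaf 0)) (.node (.leaf 0) (.leaf 40))) (.node (.node (.leaf 0) (.leaf 0)) (.leaf 160))) (.node (.node (.node (.leaf 0) (.leaf 166)) (.leaf 185)) (.node (.node (.leaf 0) (.leaf 0)) (.leaf 54)))) (.node (.node (.node (.node (.leaf 0) (.leaf 0)) (.leaf 0)) (.node (.node (.leaf 0) (.leaf 167)) (.leaf 203))) (.node (.node (.node (.leaf 0) (.leaf 0)) (.leaf 0)) (.node (.node (.leaf 0) (.leaf 189)) (.leaf 39)))))) (.node (.node (.node (.node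 (.node (.node (.leaf 32) (.leaf 55)) (.node (.leaf 0) (.leaf 157))) (.node (.node (.leaf 0) (.leaf 12)) (.leaf 270))) (.node (.node (.node (.leaf 0) (.leaf 0)) (.leaf 228)) (.node (.node (.leaf 0) (.leaf 33)) (.leaf 128)))) (.node (.node (.node (.node (.leaf 0) (.leaf 0)) (.node (.leaf 0) (.leaf 154))) (.node (.node (.leaf 0) (.leaf 0)) (.leaf 0))) (.node (.node (.node (.leaf 0) (.leaf 0)) (.leaf 67)) (.node (.node (.leaf 0) (.leaf 0)) (.leaf 0))))) (.node (.node (.node (.node (.node (.leaf 0) (.leaf 0)) (.node (.leaf 39) (.leaf 0))) (.node (.node (.leaf 0) (.leaf 0)) (.leaf 0))) (.node (.node (.node (.leaf 96) (.leaf 243)) (.leaf 243)) (.node (.node (.leaf 0) (.leaf 0)) (.leaf 0)))) (.node (.node (.node (.node (.leaf 191) (.leaf 0)) (.leaf 257)) (.node (.node (.leaf 0) (.leaf 192)) (.leaf 0))) (.node (.node (.node (.leaf 0) (.leaf 0)) (.leaf 261)) (.node (.node (.leaf 87) (.leaf 186)) (.leaf 200)))))))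

/-- Part of `posT`. -/
def posT_p10101 : Tr := .node (.node (.node (.node (.node (.node (.node (.node (.leaf 0) (.leaf 0)) (.node (.leaf 0) (.leaf 0))) (.node (.node (.leaf 0) (.leaf 0)) (.leaf 0))) (.node (.node (.node (.leaf 0) (.leaf 0)) (.leaf 0)) (.node (.node (.leaf 34) (.leaf 253)) (.leaf 0)))) (.node (.node (.node (.node (.leaf 0) (.leaf 0)) (.node (.leaf 0) (.leaf 0))) (.node (.node (.leaf 0) (.leaf 55)) (.leaf 84))) (.node (.node (.node (.leaf 128) (.leaf 0)) (.leaf 0)) (.node (.node (.leaf 150) (.leaf 226)) (.leaf 0))))) (.node (.node (.node (.node (.node (.leaf 0) (.leaf 275)) (.node (.leaf 128) (.leaf 81))) (.node (.node (.leaf 41) (.leaf 0)) (.leaf 121))) (.node (.node (.node (.leaf 0) (.leaf 253)) (.leaf 0)) (.node (.node (.leaf 0) (.leaf 64)) (.leaf 0)))) (.node (.node (.node (.node (.leaf 0) (.leaf 0)) (.node (.leaf 0) (.leaf 0))) (.node (.node (.leaf 0) (.leaf 0)) (.leaf 186))) (.node (.node (.node (.leaf 0) (.leaf 0)) (.leaf 45)) (.node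 (.node (.leaf 212) (.leaf 0)) (.leaf 63)))))) (.node (.node (.node (.node (.node (.node (.leaf 92) (.leaf 0)) (.node (.leaf 0) (.leaf 0))) (.node (.node (.leaf 0) (.leaf 0)) (.leaf 0))) (.node (.node (.node (.leaf 0) (.leaf 167)) (.leaf 0)) (.node (.node (.leaf 195) (.leaf 0)) (.leaf 0)))) (.node (.node (.node (.node (.leaf 0) (.leaf 66)) (.node (.leaf 135) (.leaf 188))) (.node (.node (.leaf 29) (.leaf 0)) (.leaf 0))) (.node (.node (.node (.leaf 144) (.leaf 0)) (.leaf 192)) (.node (.node (.leaf 205) (.leaf 0)) (.leaf 184))))) (.node (.node (.node (.node (.node (.leaf 0) (.leaf 0)) (.node (.leaf 0) (.leaf 160))) (.node (.node (.leaf 0) (.leaf 0)) (.leaf 35))) (.node (.node (.node (.leaf 219) (.leaf 266)) (.leaf 0)) (.node (.node (.leaf 0) (.leaf 0)) (.leaf 0)))) (.node (.node (.node (.node (.leaf 0) (.leaf 0)) (.leaf 0)) (.node (.node (.leaf 0) (.leaf 0)) (.leaf 0))) (.node (.node (.node (.leaf 60) (.leaf 0)) (.leaf 88)) (.node (.node (.leaf 0) (.leaf 77)) (.leaf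 0))))))) (.node (.node (.node (.node (.node (.node (.node (.leaf 0) (.leaf 0)) (.node (.leaf 0) (.leaf 0))) (.node (.node (.leaf 0) (.leaf 193)) (.leaf 257))) (.node (.node (.node (.leaf 0) (.leaf 275)) (.leaf 0)) (.node (.node (.leaf 69) (.leaf 169)) (.leaf 0)))) (.node (.node (.node (.node (.leaf 0) (.leaf 0)) (.node (.leaf 0) (.leaf 0))) (.node (.node (.leaf 175) (.leaf 0)) (.leaf 38))) (.node (.node (.node (.leaf 0) (.leaf 0)) (.leaf 253)) (.node (.node (.leaf 0) (.leaf 0)) (.leaf 0))))) (.node (.node (.node (.node (.node (.leaf 237) (.leaf 0)) (.node (.leaf 0) (.leaf 0))) (.node (.node (.leaf 0) (.leaf 0)) (.leaf 0))) (.node (.node (.node (.leaf 0) (.leaf 0)) (.leaf 170)) (.node (.node (.leaf 0) (.leaf 0)) (.leaf 179)))) (.node (.node (.node (.node (.leaf 0) (.leaf 0)) (.leaf 0)) (.node (.node (.leaf 0) (.leaf 0)) (.leaf 0))) (.node (.node (.node (.leaf 0) (.leaf 156)) (.leaf 0)) (.node (.node (.leaf 0) (.leaf 140)) (.leaf 0)))))) (.node (.node (.node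 (.node (.node (.node (.leaf 17) (.leaf 0)) (.node (.leaf 260) (.leaf 198))) (.node (.node (.leaf 0) (.leaf 0)) (.leaf 0))) (.node (.node (.node (.leaf 0) (.leaf 0)) (.leaf 0)) (.node (.node (.leaf 0) (.leaf 0)) (.leaf 0)))) (.node (.node (.node (.node (.leaf 44) (.leaf 0)) (.node (.leaf 0) (.leaf 0))) (.node (.node (.leaf 0) (.leaf 0)) (.leaf 0))) (.node (.node (.node (.leaf 0) (.leaf 0)) (.leaf 0)) (.node (.node (.leaf 151) (.leaf 0)) (.leaf 256))))) (.node (.node (.node (.node (.node (.leaf 0) (.leaf 0)) (.node (.leaf 0) (.leaf 0))) (.node (.node (.leaf 39) (.leaf 0)) (.leaf 0))) (.node (.node (.node (.leaf 45) (.leaf 241)) (.leaf 121)) (.node (.node (.leaf 202) (.leaf 0)) (.leaf 244)))) (.node (.node (.node (.node (.leaf 44) (.leaf 0)) (.leaf 115)) (.node (.node (.leaf 0) (.leaf 166)) (.leaf 0))) (.node (.node (.node (.leaf 162) (.leaf 67)) (.leaf 174)) (.node (.node (.leaf 0) (.leaf 228)) (.leaf 0)))))))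

/-- Part of `posT`. -/
def posT_p10110 : Tr := .node (.node (.node (.node (.node (.node (.node (.node (.leaf 208) (.leaf 0)) (.node (.leaf 0) (.leaf 0))) (.node (.node (.leaf 0) (.leaf 0)) (.leaf 0))) (.node (.node (.node (.leaf 0) (.leaf 0)) (.leaf 55)) (.node (.node (.leaf 0) (.leaf 0)) (.leaf 170)))) (.node (.node (.node (.node (.leaf 0) (.leaf 31)) (.node (.leaf 109) (.leaf 0))) (.node (.node (.leaf 0) (.leaf 0)) (.leaf 135))) (.node (.node (.node (.leaf 0) (.leaf 0)) (.leaf 266)) (.node (.node (.leaf 199) (.leaf 0)) (.leaf 177))))) (.node (.node (.node (.node (.node (.leaf 127) (.leaf 0)) (.node (.leaf 0) (.leaf 0))) (.node (.node (.leaf 10) (.leaf 0)) (.leaf 0))) (.node (.node (.node (.leaf 0) (.leaf 192)) (.leaf 0)) (.node (.node (.leaf 0) (.leaf 0)) (.leaf 75)))) (.node (.node (.node (.node (.leaf 0) (.leaf 0)) (.node (.leaf 0) (.leaf 0))) (.node (.node (.leaf 0) (.leaf 0)) (.leaf 0))) (.node (.node (.node (.leaf 6) (.leaf 129)) (.leaf 96)) (.node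 (.node (.leaf 0) (.leaf 28)) (.leaf 159)))))) (.node (.node (.node (.node (.node (.node (.leaf 0) (.leaf 139)) (.node (.leaf 0) (.leaf 0))) (.node (.node (.leaf 222) (.leaf 117)) (.leaf 0))) (.node (.node (.node (.leaf 0) (.leaf 185)) (.leaf 0)) (.node (.node (.leaf 0) (.leaf 0)) (.leaf 0)))) (.node (.node (.node (.node (.leaf 30) (.leaf 96)) (.node (.leaf 0) (.leaf 0))) (.node (.node (.leaf 139) (.leaf 0)) (.leaf 0))) (.node (.node (.node (.leaf 0) (.leaf 4)) (.leaf 256)) (.node (.node (.leaf 0) (.leaf 0)) (.leaf 0))))) (.node (.node (.node (.node (.node (.leaf 0) (.leaf 120)) (.node (.leaf 0) (.leaf 121))) (.node (.node (.leaf 0) (.leaf 0)) (.leaf 0))) (.node (.node (.node (.leaf 0) (.leaf 160)) (.leaf 0)) (.node (.node (.leaf 63) (.leaf 0)) (.leaf 0)))) (.node (.node (.node (.node (.leaf 0) (.leaf 0)) (.leaf 51)) (.node (.node (.leaf 0) (.leaf 0)) (.leaf 0))) (.node (.node (.node (.leaf 104) (.leaf 206)) (.leaf 0)) (.node (.node (.leaf 131) (.leaf 0)) (.leaf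 0))))))) (.node (.node (.node (.node (.node (.node (.node (.leaf 0) (.leaf 0)) (.node (.leaf 0) (.leaf 185))) (.node (.node (.leaf 165) (.leaf 0)) (.leaf 107))) (.node (.node (.node (.leaf 0) (.leaf 0)) (.leaf 235)) (.node (.node (.leaf 0) (.leaf 27)) (.leaf 0)))) (.node (.node (.node (.node (.leaf 0) (.leaf 0)) (.node (.leaf 0) (.leaf 0))) (.node (.node (.leaf 0) (.leaf 139)) (.leaf 0))) (.node (.node (.node (.leaf 50) (.leaf 169)) (.leaf 218)) (.node (.node (.leaf 0) (.leaf 0)) (.leaf 76))))) (.node (.node (.node (.node (.node (.leaf 227) (.leaf 167)) (.node (.leaf 0) (.leaf 0))) (.node (.node (.leaf 0) (.leaf 0)) (.leaf 50))) (.node (.node (.node (.leaf 0) (.leaf 0)) (.leaf 0)) (.node (.node (.leaf 0) (.leaf 0)) (.leaf 197)))) (.node (.node (.node (.node (.leaf 0) (.leaf 38)) (.leaf 0)) (.node (.node (.leaf 0) (.leaf 0)) (.leaf 0))) (.node (.node (.node (.leaf 116) (.leaf 0)) (.leaf 0)) (.node (.node (.leaf 0) (.leaf 0)) (.leaf 0)))))) (.node (.node (.node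 (.node (.node (.node (.leaf 44) (.leaf 223)) (.node (.leaf 93) (.leaf 0))) (.node (.node (.leaf 0) (.leaf 0)) (.leaf 71))) (.node (.node (.node (.leaf 30) (.leaf 0)) (.leaf 0)) (.node (.node (.leaf 0) (.leaf 0)) (.leaf 0)))) (.node (.node (.node (.node (.leaf 122) (.leaf 104)) (.node (.leaf 0) (.leaf 59))) (.node (.node (.leaf 0) (.leaf 0)) (.leaf 228))) (.node (.node (.node (.leaf 213) (.leaf 186)) (.leaf 21)) (.node (.node (.leaf 210) (.leaf 0)) (.leaf 166))))) (.node (.node (.node (.node (.node (.leaf 0) (.leaf 0)) (.node (.leaf 0) (.leaf 0))) (.node (.node (.leaf 0) (.leaf 0)) (.leaf 0))) (.node (.node (.node (.leaf 124) (.leaf 121)) (.leaf 0)) (.node (.node (.leaf 0) (.leaf 0)) (.leaf 146)))) (.node (.node (.node (.node (.leaf 92) (.leaf 164)) (.leaf 0)) (.node (.node (.leaf 0) (.leaf 0)) (.leaf 0))) (.node (.node (.node (.leaf 0) (.leaf 0)) (.leaf 0)) (.node (.node (.leaf 0) (.leaf 0)) (.leaf 0)))))))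

/-- Part of `posT`. -/
def posT_p10111 : Tr := .node (.node (.node (.node (.node (.node (.node (.node (.leaf 0) (.leaf 0)) (.node (.leaf 0) (.leaf 0))) (.node (.node (.leaf 4) (.leaf 0)) (.leaf 115))) (.node (.node (.node (.leaf 122) (.leaf 0)) (.leaf 134)) (.node (.node (.leaf 0) (.leaf 0)) (.leaf 0)))) (.node (.node (.node (.node (.leaf 0) (.leaf 89)) (.node (.leaf 0) (.leaf 38))) (.node (.node (.leaf 273) (.leaf 134)) (.leaf 60))) (.node (.node (.node (.leaf 0) (.leaf 0)) (.leaf 0)) (.node (.node (.leaf 244) (.leaf 0)) (.leaf 61))))) (.node (.node (.node (.node (.node (.leaf 0) (.leaf 0)) (.node (.leaf 0) (.leaf 0))) (.node (.node (.leaf 233) (.leaf 0)) (.leaf 0))) (.node (.node (.node (.leaf 0) (.leaf 0)) (.leaf 167)) (.node (.node (.leaf 0) (.leaf 0)) (.leaf 0)))) (.node (.node (.node (.node (.leaf 0) (.leaf 60)) (.node (.leaf 0) (.leaf 0))) (.node (.node (.leaf 0) (.leaf 0)) (.leaf 0))) (.node (.node (.node (.leaf 0) (.leaf 0)) (.leaf 0)) (.node (.node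 (.leaf 0) (.leaf 173)) (.leaf 80)))))) (.node (.node (.node (.node (.node (.node (.leaf 122) (.leaf 29)) (.node (.leaf 255) (.leaf 0))) (.node (.node (.leaf 240) (.leaf 0)) (.leaf 0))) (.node (.node (.node (.leaf 0) (.leaf 0)) (.leaf 186)) (.node (.node (.leaf 13) (.leaf 51)) (.leaf 0)))) (.node (.node (.node (.node (.leaf 0) (.leaf 0)) (.node (.leaf 0) (.leaf 0))) (.node (.node (.leaf 0) (.leaf 0)) (.leaf 0))) (.node (.node (.node (.leaf 0) (.leaf 258)) (.leaf 278)) (.node (.node (.leaf 107) (.leaf 0)) (.leaf 0))))) (.node (.node (.node (.node (.node (.leaf 0) (.leaf 132)) (.node (.leaf 103) (.leaf 74))) (.node (.node (.leaf 0) (.leaf 0)) (.leaf 0))) (.node (.node (.node (.leaf 89) (.leaf 0)) (.leaf 0)) (.node (.node (.leaf 0) (.leaf 0)) (.leaf 0)))) (.node (.node (.node (.node (.leaf 0) (.leaf 0)) (.leaf 246)) (.node (.node (.leaf 0) (.leaf 0)) (.leaf 0))) (.node (.node (.node (.leaf 0) (.leaf 0)) (.leaf 0)) (.node (.node (.leaf 0) (.leaf 129)) (.leaf 171)))))))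 (.node (.node (.node (.node (.node (.node (.node (.leaf 208) (.leaf 187)) (.node (.leaf 0) (.leaf 0))) (.node (.node (.leaf 190) (.leaf 0)) (.leaf 0))) (.node (.node (.node (.leaf 249) (.leaf 170)) (.leaf 0)) (.node (.node (.leaf 0) (.leaf 0)) (.leaf 0)))) (.node (.node (.node (.node (.leaf 0) (.leaf 0)) (.node (.leaf 0) (.leaf 0))) (.node (.node (.leaf 0) (.leaf 136)) (.leaf 0))) (.node (.node (.node (.leaf 0) (.leaf 0)) (.leaf 166)) (.node (.node (.leaf 0) (.leaf 0)) (.leaf 153))))) (.node (.node (.node (.node (.node (.leaf 0) (.leaf 0)) (.node (.leaf 0) (.leaf 0))) (.node (.node (.leaf 0) (.leaf 0)) (.leaf 19))) (.node (.node (.node (.leaf 94) (.leaf 0)) (.leaf 275)) (.node (.node (.leaf 0) (.leaf 0)) (.leaf 62)))) (.node (.node (.node (.node (.leaf 127) (.leaf 0)) (.leaf 0)) (.node (.node (.leaf 53) (.leaf 275)) (.leaf 0))) (.node (.node (.node (.leaf 0) (.leaf 55)) (.leaf 0)) (.node (.node (.leaf 0) (.leaf 0)) (.leaf 64)))))) (.node (.node (.node (.node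 (.node (.node (.leaf 0) (.leaf 0)) (.node (.leaf 0) (.leaf 0))) (.node (.node (.leaf 0) (.leaf 266)) (.leaf 199))) (.node (.node (.node (.leaf 125) (.leaf 256)) (.leaf 0)) (.node (.node (.leaf 68) (.leaf 0)) (.leaf 0)))) (.node (.node (.node (.node (.leaf 0) (.leaf 0)) (.node (.leaf 207) (.leaf 9))) (.node (.node (.leaf 0) (.leaf 0)) (.leaf 258))) (.node (.node (.node (.leaf 182) (.leaf 228)) (.leaf 0)) (.node (.node (.leaf 0) (.leaf 0)) (.leaf 0))))) (.node (.node (.node (.node (.node (.leaf 127) (.leaf 83)) (.node (.leaf 0) (.leaf 0))) (.node (.node (.leaf 0) (.leaf 0)) (.leaf 104))) (.node (.node (.node (.leaf 66) (.leaf 50)) (.leaf 160)) (.node (.node (.leaf 0) (.leaf 95)) (.leaf 0)))) (.node (.node (.node (.node (.leaf 0) (.leaf 0)) (.leaf 102)) (.node (.node (.leaf 0) (.leaf 0)) (.leaf 0))) (.node (.node (.node (.leaf 268) (.leaf 0)) (.leaf 0)) (.node (.node (.leaf 0) (.leaf 258)) (.leaf 0)))))))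

/-- Part of `posT`. -/
def posT_p11000 : Tr := .node (.node (.node (.node (.node (.node (.node (.node (.leaf 0) (.leaf 0)) (.node (.leaf 140) (.leaf 0))) (.node (.node (.leaf 0) (.leaf 0)) (.leaf 252))) (.node (.node (.node (.leaf 97) (.leaf 0)) (.leaf 0)) (.node (.node (.leaf 0) (.leaf 65)) (.leaf 0)))) (.node (.node (.node (.node (.leaf 0) (.leaf 0)) (.node (.leaf 0) (.leaf 119))) (.node (.node (.leaf 254) (.leaf 0)) (.leaf 207))) (.node (.node (.node (.leaf 0) (.leaf 0)) (.leaf 117)) (.node (.node (.leaf 196) (.leaf 0)) (.leaf 0))))) (.node (.node (.node (.node (.node (.leaf 0) (.leaf 145)) (.node (.leaf 110) (.leaf 0))) (.node (.node (.leaf 0) (.leaf 0)) (.leaf 0))) (.node (.node (.node (.leaf 238) (.leaf 0)) (.leaf 8)) (.node (.node (.leaf 0) (.leaf 164)) (.leaf 124)))) (.node (.node (.node (.node (.leaf 0) (.leaf 0)) (.node (.leaf 0) (.leaf 0))) (.node (.node (.leaf 76) (.leaf 0)) (.leaf 0))) (.node (.node (.node (.leaf 0) (.leaf 0)) (.leaf 0)) (.node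 (.node (.leaf 0) (.leaf 278)) (.leaf 0)))))) (.node (.node (.node (.node (.node (.node (.leaf 0) (.leaf 86)) (.node (.leaf 0) (.leaf 211))) (.node (.node (.leaf 110) (.leaf 0)) (.leaf 102))) (.node (.node (.node (.leaf 0) (.leaf 0)) (.leaf 20)) (.node (.node (.leaf 0) (.leaf 213)) (.leaf 57)))) (.node (.node (.node (.node (.leaf 0) (.leaf 16)) (.node (.leaf 0) (.leaf 0))) (.node (.node (.leaf 215) (.leaf 0)) (.leaf 0))) (.node (.node (.node (.leaf 0) (.leaf 144)) (.leaf 28)) (.node (.node (.leaf 0) (.leaf 248)) (.leaf 0))))) (.node (.node (.node (.node (.node (.leaf 238) (.leaf 0)) (.node (.leaf 47) (.leaf 0))) (.node (.node (.leaf 0) (.leaf 0)) (.leaf 0))) (.node (.node (.node (.leaf 0) (.leaf 0)) (.leaf 0)) (.node (.node (.leaf 0) (.leaf 0)) (.leaf 0)))) (.node (.node (.node (.node (.leaf 0) (.leaf 0)) (.leaf 0)) (.node (.node (.leaf 0) (.leaf 34)) (.leaf 0))) (.node (.node (.node (.leaf 0) (.leaf 11)) (.leaf 278)) (.node (.node (.leaf 84) (.leaf 0)) (.leaf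 0))))))) (.node (.node (.node (.node (.node (.node (.node (.leaf 163) (.leaf 5)) (.node (.leaf 261) (.leaf 0))) (.node (.node (.leaf 0) (.leaf 53)) (.leaf 0))) (.node (.node (.node (.leaf 0) (.leaf 0)) (.leaf 0)) (.node (.node (.leaf 0) (.leaf 174)) (.leaf 232)))) (.node (.node (.node (.node (.leaf 0) (.leaf 0)) (.node (.leaf 81) (.leaf 2))) (.node (.node (.leaf 0) (.leaf 273)) (.leaf 0))) (.node (.node (.node (.leaf 0) (.leaf 0)) (.leaf 173)) (.node (.node (.leaf 0) (.leaf 0)) (.leaf 0))))) (.node (.node (.node (.node (.node (.leaf 0) (.leaf 0)) (.node (.leaf 73) (.leaf 0))) (.node (.node (.leaf 0) (.leaf 0)) (.leaf 0))) (.node (.node (.node (.leaf 17) (.leaf 217)) (.leaf 114)) (.node (.node (.leaf 59) (.leaf 0)) (.leaf 0)))) (.node (.node (.node (.node (.leaf 0) (.leaf 0)) (.leaf 0)) (.node (.node (.leaf 61) (.leaf 0)) (.leaf 23))) (.node (.node (.node (.leaf 114) (.leaf 0)) (.leaf 0)) (.node (.node (.leaf 0) (.leaf 0)) (.leaf 0)))))) (.node (.node (.node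 (.node (.node (.node (.leaf 0) (.leaf 209)) (.node (.leaf 0) (.leaf 0))) (.node (.node (.leaf 0) (.leaf 241)) (.leaf 0))) (.node (.node (.node (.leaf 214) (.leaf 0)) (.leaf 0)) (.node (.node (.leaf 0) (.leaf 0)) (.leaf 0)))) (.node (.node (.node (.node (.leaf 0) (.leaf 0)) (.node (.leaf 2) (.leaf 168))) (.node (.node (.leaf 0) (.leaf 0)) (.leaf 245))) (.node (.node (.node (.leaf 0) (.leaf 179)) (.leaf 0)) (.node (.node (.leaf 0) (.leaf 271)) (.leaf 230))))) (.node (.node (.node (.node (.node (.leaf 0) (.leaf 207)) (.node (.leaf 0) (.leaf 0))) (.node (.node (.leaf 0) (.leaf 0)) (.leaf 0))) (.node (.node (.node (.leaf 193) (.leaf 0)) (.leaf 0)) (.node (.node (.leaf 0) (.leaf 66)) (.leaf 0)))) (.node (.node (.node (.node (.leaf 0) (.leaf 80)) (.leaf 0)) (.node (.node (.leaf 0) (.leaf 7)) (.leaf 15))) (.node (.node (.node (.leaf 0) (.leaf 175)) (.leaf 218)) (.node (.node (.leaf 0) (.leaf 0)) (.leaf 0)))))))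

/-- Part of `posT`. -/
def posT_p11001 : Tr := .node (.node (.node (.node (.node (.node (.node (.node (.leaf 0) (.leaf 0)) (.node (.leaf 88) (.leaf 178))) (.node (.node (.leaf 83) (.leaf 0)) (.leaf 86))) (.node (.node (.node (.leaf 24) (.leaf 0)) (.leaf 0)) (.node (.node (.leaf 0) (.leaf 262)) (.leaf 0)))) (.node (.node (.node (.node (.leaf 0) (.leaf 0)) (.node (.leaf 0) (.leaf 207))) (.node (.node (.leaf 0) (.leaf 0)) (.leaf 0))) (.node (.node (.node (.leaf 0) (.leaf 0)) (.leaf 0)) (.node (.node (.leaf 0) (.leaf 0)) (.leaf 0))))) (.node (.node (.node (.node (.node (.leaf 0) (.leaf 0)) (.node (.leaf 67) (.leaf 0))) (.node (.node (.leaf 28) (.leaf 0)) (.leaf 0))) (.node (.node (.node (.leaf 0) (.leaf 0)) (.leaf 0)) (.node (.node (.leaf 0) (.leaf 141)) (.leaf 0)))) (.node (.node (.node (.node (.leaf 97) (.leaf 143)) (.node (.leaf 0) (.leaf 0))) (.node (.node (.leaf 0) (.leaf 147)) (.leaf 229))) (.node (.node (.node (.leaf 0) (.leaf 0)) (.leaf 0)) (.node (.node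 (.leaf 0) (.leaf 0)) (.leaf 0)))))) (.node (.node (.node (.node (.node (.node (.leaf 0) (.leaf 271)) (.node (.leaf 20) (.leaf 0))) (.node (.node (.leaf 0) (.leaf 0)) (.leaf 0))) (.node (.node (.node (.leaf 0) (.leaf 0)) (.leaf 110)) (.node (.node (.leaf 114) (.leaf 13)) (.leaf 0)))) (.node (.node (.node (.node (.leaf 0) (.leaf 0)) (.node (.leaf 0) (.leaf 0))) (.node (.node (.leaf 0) (.leaf 0)) (.leaf 0))) (.node (.node (.node (.leaf 59) (.leaf 0)) (.leaf 189)) (.node (.node (.leaf 0) (.leaf 267)) (.leaf 278))))) (.node (.node (.node (.node (.node (.leaf 0) (.leaf 0)) (.node (.leaf 21) (.leaf 194))) (.node (.node (.leaf 0) (.leaf 165)) (.leaf 0))) (.node (.node (.node (.leaf 0) (.leaf 0)) (.leaf 74)) (.node (.node (.leaf 0) (.leaf 0)) (.leaf 3)))) (.node (.node (.node (.node (.leaf 0) (.leaf 15)) (.leaf 0)) (.node (.node (.leaf 239) (.leaf 0)) (.leaf 109))) (.node (.node (.node (.leaf 0) (.leaf 0)) (.leaf 0)) (.node (.node (.leaf 0) (.leaf 0)) (.leaf 0)))))))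 (.node (.node (.node (.node (.node (.node (.node (.leaf 269) (.leaf 172)) (.node (.leaf 28) (.leaf 0))) (.node (.node (.leaf 137) (.leaf 236)) (.leaf 0))) (.node (.node (.node (.leaf 0) (.leaf 0)) (.leaf 0)) (.node (.node (.leaf 0) (.leaf 0)) (.leaf 0)))) (.node (.node (.node (.node (.leaf 0) (.leaf 106)) (.node (.leaf 119) (.leaf 0))) (.node (.node (.leaf 223) (.leaf 0)) (.leaf 0))) (.node (.node (.node (.leaf 33) (.leaf 0)) (.leaf 140)) (.node (.node (.leaf 152) (.leaf 86)) (.leaf 0))))) (.node (.node (.node (.node (.node (.leaf 0) (.leaf 6)) (.node (.leaf 0) (.leaf 0))) (.node (.node (.leaf 224) (.leaf 240)) (.leaf 168))) (.node (.node (.node (.leaf 79) (.leaf 0)) (.leaf 0)) (.node (.node (.leaf 0) (.leaf 203)) (.leaf 255)))) (.node (.node (.node (.node (.leaf 0) (.leaf 99)) (.leaf 59)) (.node (.node (.leaf 0) (.leaf 0)) (.leaf 25))) (.node (.node (.node (.leaf 0) (.leaf 0)) (.leaf 106)) (.node (.node (.leaf 36) (.leaf 230)) (.leaf 0)))))) (.node (.node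 (.node (.node (.node (.node (.leaf 0) (.leaf 0)) (.node (.leaf 0) (.leaf 0))) (.node (.node (.leaf 0) (.leaf 181)) (.leaf 0))) (.node (.node (.node (.leaf 0) (.leaf 184)) (.leaf 178)) (.node (.node (.leaf 0) (.leaf 0)) (.leaf 37)))) (.node (.node (.node (.node (.leaf 0) (.leaf 0)) (.node (.leaf 136) (.leaf 0))) (.node (.node (.leaf 0) (.leaf 0)) (.leaf 0))) (.node (.node (.node (.leaf 0) (.leaf 197)) (.leaf 0)) (.node (.node (.leaf 0) (.leaf 0)) (.leaf 0))))) (.node (.node (.node (.node (.node (.leaf 0) (.leaf 0)) (.node (.leaf 0) (.leaf 12))) (.node (.node (.leaf 155) (.leaf 206)) (.leaf 0))) (.node (.node (.node (.leaf 0) (.leaf 0)) (.leaf 0)) (.node (.node (.leaf 0) (.leaf 47)) (.leaf 0)))) (.node (.node (.node (.node (.leaf 0) (.leaf 0)) (.leaf 0)) (.node (.node (.leaf 0) (.leaf 0)) (.leaf 180))) (.node (.node (.node (.leaf 0) (.leaf 0)) (.leaf 265)) (.node (.node (.leaf 0) (.leaf 0)) (.leaf 168)))))))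

/-- Part of `posT`. -/
def posT_p11010 : Tr := .node (.node (.node (.node (.node (.node (.node (.node (.leaf 0) (.leaf 133)) (.node (.leaf 174) (.leaf 0))) (.node (.node (.leaf 0) (.leaf 0)) (.leaf 0))) (.node (.node (.node (.leaf 0) (.leaf 180)) (.leaf 0)) (.node (.node (.leaf 0) (.leaf 0)) (.leaf 0)))) (.node (.node (.node (.node (.leaf 242) (.leaf 0)) (.node (.leaf 0) (.leaf 131))) (.node (.node (.leaf 108) (.leaf 0)) (.leaf 0))) (.node (.node (.node (.leaf 0) (.leaf 0)) (.leaf 26)) (.node (.node (.leaf 0) (.leaf 73)) (.leaf 0))))) (.node (.node (.node (.node (.node (.leaf 0) (.leaf 0)) (.node (.leaf 0) (.leaf 0))) (.node (.node (.leaf 0) (.leaf 46)) (.leaf 0))) (.node (.node (.node (.leaf 92) (.leaf 0)) (.leaf 0)) (.node (.node (.leaf 0) (.leaf 202)) (.leaf 0)))) (.node (.node (.node (.node (.leaf 225) (.leaf 0)) (.node (.leaf 0) (.leaf 0))) (.node (.node (.leaf 43) (.leaf 48)) (.leaf 235))) (.node (.node (.node (.leaf 0) (.leaf 165)) (.leaf 0)) (.node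 (.node (.leaf 0) (.leaf 0)) (.leaf 202)))))) (.node (.node (.node (.node (.node (.node (.leaf 208) (.leaf 0)) (.node (.leaf 137) (.leaf 8))) (.node (.node (.leaf 77) (.leaf 0)) (.leaf 246))) (.node (.node (.node (.leaf 0) (.leaf 0)) (.leaf 0)) (.node (.node (.leaf 0) (.leaf 0)) (.leaf 0)))) (.node (.node (.node (.node (.leaf 0) (.leaf 0)) (.node (.leaf 0) (.leaf 0))) (.node (.node (.leaf 272) (.leaf 162)) (.leaf 0))) (.node (.node (.node (.leaf 0) (.leaf 213)) (.leaf 0)) (.node (.node (.leaf 0) (.leaf 0)) (.leaf 0))))) (.node (.node (.node (.node (.node (.leaf 0) (.leaf 0)) (.node (.leaf 0) (.leaf 0))) (.node (.node (.leaf 0) (.leaf 222)) (.leaf 0))) (.node (.node (.node (.leaf 242) (.leaf 196)) (.leaf 0)) (.node (.node (.leaf 0) (.leaf 89)) (.leaf 118)))) (.node (.node (.node (.node (.leaf 22) (.leaf 0)) (.leaf 154)) (.node (.node (.leaf 0) (.leaf 0)) (.leaf 0))) (.node (.node (.node (.leaf 72) (.leaf 0)) (.leaf 149)) (.node (.node (.leaf 0) (.leaf 93)) (.leaf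 0))))))) (.node (.node (.node (.node (.node (.node (.node (.leaf 0) (.leaf 0)) (.node (.leaf 262) (.leaf 0))) (.node (.node (.leaf 20) (.leaf 0)) (.leaf 271))) (.node (.node (.node (.leaf 0) (.leaf 0)) (.leaf 0)) (.node (.node (.leaf 72) (.leaf 195)) (.leaf 42)))) (.node (.node (.node (.node (.leaf 79) (.leaf 221)) (.node (.leaf 198) (.leaf 0))) (.node (.node (.leaf 0) (.leaf 156)) (.leaf 0))) (.node (.node (.node (.leaf 27) (.leaf 0)) (.leaf 0)) (.node (.node (.leaf 0) (.leaf 0)) (.leaf 0))))) (.node (.node (.node (.node (.node (.leaf 0) (.leaf 234)) (.node (.leaf 0) (.leaf 0))) (.node (.node (.leaf 279) (.leaf 220)) (.leaf 0))) (.node (.node (.node (.leaf 0) (.leaf 1)) (.leaf 0)) (.node (.node (.leaf 111) (.leaf 0)) (.leaf 0)))) (.node (.node (.node (.node (.leaf 0) (.leaf 98)) (.leaf 0)) (.node (.node (.leaf 176) (.leaf 0)) (.leaf 0))) (.node (.node (.node (.leaf 0) (.leaf 78)) (.leaf 221)) (.node (.node (.leaf 0) (.leaf 218)) (.leaf 0)))))) (.node (.node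 (.node (.node (.node (.node (.leaf 0) (.leaf 0)) (.node (.leaf 0) (.leaf 0))) (.node (.node (.leaf 58) (.leaf 0)) (.leaf 0))) (.node (.node (.node (.leaf 227) (.leaf 130)) (.leaf 77)) (.node (.node (.leaf 0) (.leaf 0)) (.leaf 0)))) (.node (.node (.node (.node (.leaf 0) (.leaf 0)) (.node (.leaf 0) (.leaf 0))) (.node (.node (.leaf 0) (.leaf 268)) (.leaf 0))) (.node (.node (.node (.leaf 0) (.leaf 0)) (.leaf 0)) (.node (.node (.leaf 0) (.leaf 0)) (.leaf 149))))) (.node (.node (.node (.node (.node (.leaf 0) (.leaf 0)) (.node (.leaf 0) (.leaf 117))) (.node (.node (.leaf 123) (.leaf 0)) (.leaf 0))) (.node (.node (.node (.leaf 0) (.leaf 264)) (.leaf 0)) (.node (.node (.leaf 203) (.leaf 0)) (.leaf 0)))) (.node (.node (.node (.node (.leaf 90) (.leaf 0)) (.leaf 0)) (.node (.node (.leaf 201) (.leaf 41)) (.leaf 0))) (.node (.node (.node (.leaf 0) (.leaf 0)) (.leaf 0)) (.node (.node (.leaf 0) (.leaf 255)) (.leaf 0)))))))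

/-- Part of `posT`. -/
def posT_p11011 : Tr := .node (.node (.node (.node (.node (.node (.node (.node (.leaf 0) (.leaf 0)) (.node (.leaf 0) (.leaf 142))) (.node (.node (.leaf 132) (.leaf 201)) (.leaf 0))) (.node (.node (.node (.leaf 0) (.leaf 42)) (.leaf 0)) (.node (.node (.leaf 0) (.leaf 0)) (.leaf 0)))) (.node (.node (.node (.node (.leaf 0) (.leaf 250)) (.node (.leaf 0) (.leaf 87))) (.node (.node (.leaf 0) (.leaf 0)) (.leaf 0))) (.node (.node (.node (.leaf 0) (.leaf 0)) (.leaf 0)) (.node (.node (.leaf 176) (.leaf 0)) (.leaf 0))))) (.node (.node (.node (.node (.node (.leaf 0) (.leaf 0)) (.node (.leaf 0) (.leaf 0))) (.node (.node (.leaf 0) (.leaf 0)) (.leaf 0))) (.node (.node (.node (.leaf 0) (.leaf 153)) (.leaf 0)) (.node (.node (.leaf 154) (.leaf 18)) (.leaf 220)))) (.node (.node (.node (.node (.leaf 56) (.leaf 259)) (.node (.leaf 0) (.leaf 0))) (.node (.node (.leaf 14) (.leaf 0)) (.leaf 0))) (.node (.node (.node (.leaf 0) (.leaf 240)) (.leaf 0)) (.node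 (.node (.leaf 105) (.leaf 0)) (.leaf 0)))))) (.node (.node (.node (.node (.node (.node (.leaf 125) (.leaf 0)) (.node (.leaf 0) (.leaf 0))) (.node (.node (.leaf 247) (.leaf 0)) (.leaf 0))) (.node (.node (.node (.leaf 0) (.leaf 0)) (.leaf 137)) (.node (.node (.leaf 0) (.leaf 0)) (.leaf 0)))) (.node (.node (.node (.node (.leaf 0) (.leaf 0)) (.node (.leaf 0) (.leaf 133))) (.node (.node (.leaf 187) (.leaf 0)) (.leaf 276))) (.node (.node (.node (.leaf 154) (.leaf 101)) (.leaf 0)) (.node (.node (.leaf 0) (.leaf 158)) (.leaf 0))))) (.node (.node (.node (.node (.node (.leaf 214) (.leaf 0)) (.node (.leaf 0) (.leaf 0))) (.node (.node (.leaf 0) (.leaf 255)) (.leaf 0))) (.node (.node (.node (.leaf 0) (.leaf 176)) (.leaf 12)) (.node (.node (.leaf 18) (.leaf 0)) (.leaf 0)))) (.node (.node (.node (.node (.leaf 32) (.leaf 0)) (.leaf 0)) (.node (.node (.leaf 0) (.leaf 0)) (.leaf 0))) (.node (.node (.node (.leaf 0) (.leaf 273)) (.leaf 230)) (.node (.node (.leaf 161) (.leaf 220))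 (.leaf 0))))))) (.node (.node (.node (.node (.node (.node (.node (.leaf 274) (.leaf 0)) (.node (.leaf 0) (.leaf 0))) (.node (.node (.leaf 0) (.leaf 239)) (.leaf 0))) (.node (.node (.node (.leaf 0) (.leaf 72)) (.leaf 0)) (.node (.node (.leaf 0) (.leaf 144)) (.leaf 0)))) (.node (.node (.node (.node (.leaf 30) (.leaf 0)) (.node (.leaf 0) (.leaf 136))) (.node (.node (.leaf 0) (.leaf 105)) (.leaf 0))) (.node (.node (.node (.leaf 0) (.leaf 0)) (.leaf 0)) (.node (.node (.leaf 270) (.leaf 212)) (.leaf 0))))) (.node (.node (.node (.node (.node (.leaf 0) (.leaf 0)) (.node (.leaf 0) (.leaf 263))) (.node (.node (.leaf 0) (.leaf 190)) (.leaf 133))) (.node (.node (.node (.leaf 0) (.leaf 231)) (.leaf 0)) (.node (.node (.leaf 0) (.leaf 0)) (.leaf 0)))) (.node (.node (.node (.node (.leaf 0) (.leaf 23)) (.leaf 0)) (.node (.node (.leaf 0) (.leaf 52)) (.leaf 0))) (.node (.node (.node (.leaf 0) (.leaf 0)) (.leaf 0)) (.node (.node (.leaf 0) (.leaf 4)) (.leaf 0)))))) (.node (.node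 (.node (.node (.node (.node (.leaf 0) (.leaf 182)) (.node (.leaf 77) (.leaf 202))) (.node (.node (.leaf 140) (.leaf 183)) (.leaf 0))) (.node (.node (.node (.leaf 237) (.leaf 0)) (.leaf 0)) (.node (.node (.leaf 0) (.leaf 111)) (.leaf 0)))) (.node (.node (.node (.node (.leaf 0) (.leaf 0)) (.node (.leaf 0) (.leaf 0))) (.node (.node (.leaf 196) (.leaf 36)) (.leaf 0))) (.node (.node (.node (.leaf 0) (.leaf 277)) (.leaf 0)) (.node (.node (.leaf 0) (.leaf 149)) (.leaf 218))))) (.node (.node (.node (.node (.node (.leaf 249) (.leaf 0)) (.node (.leaf 0) (.leaf 0))) (.node (.node (.leaf 0) (.leaf 175)) (.leaf 0))) (.node (.node (.node (.leaf 0) (.leaf 0)) (.leaf 0)) (.node (.node (.leaf 0) (.leaf 0)) (.leaf 0)))) (.node (.node (.node (.node (.leaf 225) (.leaf 159)) (.leaf 0)) (.node (.node (.leaf 0) (.leaf 10)) (.leaf 148))) (.node (.node (.node (.leaf 0) (.leaf 0)) (.leaf 0)) (.node (.node (.leaf 0) (.leaf 260)) (.leaf 0)))))))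

/-- Part of `posT`. -/
def posT_p11100 : Tr := .node (.node (.node (.node (.node (.node (.node (.node (.leaf 0) (.leaf 0)) (.node (.leaf 0) (.leaf 0))) (.node (.node (.leaf 0) (.leaf 0)) (.leaf 0))) (.node (.node (.node (.leaf 227) (.leaf 25)) (.leaf 0)) (.node (.node (.leaf 0) (.leaf 0)) (.leaf 0)))) (.node (.node (.node (.node (.leaf 191) (.leaf 0)) (.node (.leaf 141) (.leaf 104))) (.node (.node (.leaf 0) (.leaf 223)) (.leaf 0))) (.node (.node (.node (.leaf 0) (.leaf 0)) (.leaf 176)) (.node (.node (.leaf 160) (.leaf 0)) (.leaf 0))))) (.node (.node (.node (.node (.node (.leaf 0) (.leaf 170)) (.node (.leaf 0) (.leaf 0))) (.node (.node (.leaf 256) (.leaf 0)) (.leaf 12))) (.node (.node (.node (.leaf 127) (.leaf 0)) (.leaf 0)) (.node (.node (.leaf 0) (.leaf 0)) (.leaf 0)))) (.node (.node (.node (.node (.leaf 94) (.leaf 0)) (.node (.leaf 9) (.leaf 68))) (.node (.node (.leaf 121) (.leaf 0)) (.leaf 220))) (.node (.node (.node (.leaf 0) (.leaf 20)) (.leaf 0)) (.node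 (.node (.leaf 134) (.leaf 0)) (.leaf 0)))))) (.node (.node (.node (.node (.node (.node (.leaf 0) (.leaf 0)) (.node (.leaf 186) (.leaf 0))) (.node (.node (.leaf 220) (.leaf 0)) (.leaf 139))) (.node (.node (.node (.leaf 0) (.leaf 0)) (.leaf 240)) (.node (.node (.leaf 275) (.leaf 133)) (.leaf 0)))) (.node (.node (.node (.node (.leaf 90) (.leaf 0)) (.node (.leaf 0) (.leaf 60))) (.node (.node (.leaf 0) (.leaf 38)) (.leaf 0))) (.node (.node (.node (.leaf 0) (.leaf 0)) (.leaf 0)) (.node (.node (.leaf 5) (.leaf 139)) (.leaf 192))))) (.node (.node (.node (.node (.node (.leaf 0) (.leaf 0)) (.node (.leaf 124) (.leaf 270))) (.node (.node (.leaf 0) (.leaf 0)) (.leaf 0))) (.node (.node (.node (.leaf 0) (.leaf 0)) (.leaf 0)) (.node (.node (.leaf 0) (.leaf 0)) (.leaf 0)))) (.node (.node (.node (.node (.leaf 125) (.leaf 0)) (.leaf 0)) (.node (.node (.leaf 226) (.leaf 0)) (.leaf 0))) (.node (.node (.node (.leaf 170) (.leaf 0)) (.leaf 0)) (.node (.node (.leaf 0) (.leaf 0)) (.leaf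 0))))))) (.node (.node (.node (.node (.node (.node (.node (.leaf 274) (.leaf 0)) (.node (.leaf 10) (.leaf 0))) (.node (.node (.leaf 0) (.leaf 0)) (.leaf 0))) (.node (.node (.node (.leaf 0) (.leaf 0)) (.leaf 0)) (.node (.node (.leaf 0) (.leaf 0)) (.leaf 0)))) (.node (.node (.node (.node (.leaf 0) (.leaf 0)) (.node (.leaf 0) (.leaf 0))) (.node (.node (.leaf 55) (.leaf 271)) (.leaf 0))) (.node (.node (.node (.leaf 0) (.leaf 154)) (.leaf 0)) (.node (.node (.leaf 0) (.leaf 29)) (.leaf 0))))) (.node (.node (.node (.node (.node (.leaf 56) (.leaf 0)) (.node (.leaf 226) (.leaf 0))) (.node (.node (.leaf 0) (.leaf 129)) (.leaf 0))) (.node (.node (.node (.leaf 0) (.leaf 0)) (.leaf 6)) (.node (.node (.leaf 157) (.leaf 0)) (.leaf 228)))) (.node (.node (.node (.node (.leaf 24) (.leaf 0)) (.leaf 213)) (.node (.node (.leaf 0) (.leaf 0)) (.leaf 198))) (.node (.node (.node (.leaf 185) (.leaf 0)) (.leaf 95)) (.node (.node (.leaf 0) (.leaf 88)) (.leaf 0)))))) (.node (.node (.node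 (.node (.node (.node (.leaf 0) (.leaf 0)) (.node (.leaf 0) (.leaf 64))) (.node (.node (.leaf 228) (.leaf 76)) (.leaf 26))) (.node (.node (.node (.leaf 0) (.leaf 218)) (.leaf 0)) (.node (.node (.leaf 0) (.leaf 0)) (.leaf 0)))) (.node (.node (.node (.node (.leaf 0) (.leaf 0)) (.node (.leaf 0) (.leaf 0))) (.node (.node (.leaf 0) (.leaf 0)) (.leaf 0))) (.node (.node (.node (.leaf 0) (.leaf 235)) (.leaf 250)) (.node (.node (.leaf 139) (.leaf 107)) (.leaf 0))))) (.node (.node (.node (.node (.node (.leaf 0) (.leaf 0)) (.node (.leaf 0) (.leaf 0))) (.node (.node (.leaf 202) (.leaf 0)) (.leaf 9))) (.node (.node (.node (.leaf 0) (.leaf 0)) (.leaf 241)) (.node (.node (.leaf 0) (.leaf 0)) (.leaf 0)))) (.node (.node (.node (.node (.leaf 0) (.leaf 0)) (.leaf 0)) (.node (.node (.leaf 0) (.leaf 0)) (.leaf 0))) (.node (.node (.node (.leaf 31) (.leaf 115)) (.leaf 0)) (.node (.node (.leaf 162) (.leaf 0)) (.leaf 169)))))))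

/-- Part of `posT`. -/
def posT_p11101 : Tr := .node (.node (.node (.node (.node (.node (.node (.node (.leaf 269) (.leaf 0)) (.node (.leaf 166) (.leaf 167))) (.node (.node (.leaf 0) (.leaf 75)) (.leaf 134))) (.node (.node (.node (.leaf 0) (.leaf 0)) (.leaf 0)) (.node (.node (.leaf 0) (.leaf 230)) (.leaf 0)))) (.node (.node (.node (.node (.leaf 22) (.leaf 0)) (.node (.leaf 0) (.leaf 161))) (.node (.node (.leaf 0) (.leaf 0)) (.leaf 136))) (.node (.node (.node (.leaf 0) (.leaf 13)) (.leaf 0)) (.node (.node (.leaf 0) (.leaf 96)) (.leaf 0))))) (.node (.node (.node (.node (.node (.leaf 0) (.leaf 0)) (.node (.leaf 95) (.leaf 0))) (.node (.node (.leaf 0) (.leaf 0)) (.leaf 74))) (.node (.node (.node (.leaf 0) (.leaf 140)) (.leaf 0)) (.node (.node (.leaf 51) (.leaf 0)) (.leaf 0)))) (.node (.node (.node (.node (.leaf 90) (.leaf 0)) (.node (.leaf 0) (.leaf 0))) (.node (.node (.leaf 0) (.leaf 185)) (.leaf 0))) (.node (.node (.node (.leaf 0) (.leaf 245)) (.leaf 0)) (.node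 (.node (.leaf 0) (.leaf 0)) (.leaf 0)))))) (.node (.node (.node (.node (.node (.node (.leaf 0) (.leaf 0)) (.node (.leaf 0) (.leaf 0))) (.node (.node (.leaf 255) (.leaf 121)) (.leaf 1))) (.node (.node (.node (.leaf 0) (.leaf 0)) (.leaf 0)) (.node (.node (.leaf 188) (.leaf 0)) (.leaf 0)))) (.node (.node (.node (.node (.leaf 0) (.leaf 0)) (.node (.leaf 0) (.leaf 50))) (.node (.node (.leaf 0) (.leaf 31)) (.leaf 77))) (.node (.node (.node (.leaf 0) (.leaf 0)) (.leaf 0)) (.node (.node (.leaf 55) (.leaf 210)) (.leaf 174))))) (.node (.node (.node (.node (.node (.leaf 0) (.leaf 0)) (.node (.leaf 0) (.leaf 0))) (.node (.node (.leaf 0) (.leaf 0)) (.leaf 0))) (.node (.node (.node (.leaf 122) (.leaf 0)) (.leaf 0)) (.node (.node (.leaf 64) (.leaf 0)) (.leaf 258)))) (.node (.node (.node (.node (.leaf 0) (.leaf 0)) (.leaf 0)) (.node (.node (.leaf 0) (.leaf 0)) (.leaf 202))) (.node (.node (.node (.leaf 0) (.leaf 0)) (.leaf 189)) (.node (.node (.leaf 0) (.leaf 0)) (.leaf 27)))))))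 (.node (.node (.node (.node (.node (.node (.node (.leaf 0) (.leaf 0)) (.node (.leaf 41) (.leaf 0))) (.node (.node (.leaf 186) (.leaf 0)) (.leaf 0))) (.node (.node (.node (.leaf 0) (.leaf 0)) (.leaf 258)) (.node (.node (.leaf 167) (.leaf 0)) (.leaf 0)))) (.node (.node (.node (.node (.leaf 0) (.leaf 53)) (.node (.leaf 0) (.leaf 84))) (.node (.node (.leaf 212) (.leaf 120)) (.leaf 0))) (.node (.node (.node (.leaf 0) (.leaf 0)) (.leaf 0)) (.node (.node (.leaf 266) (.leaf 0)) (.leaf 0))))) (.node (.node (.node (.node (.node (.leaf 219) (.leaf 0)) (.node (.leaf 0) (.leaf 0))) (.node (.node (.leaf 192) (.leaf 258)) (.leaf 154))) (.node (.node (.node (.leaf 0) (.leaf 0)) (.leaf 72)) (.node (.node (.leaf 40) (.leaf 0)) (.leaf 0)))) (.node (.node (.node (.node (.leaf 0) (.leaf 135)) (.leaf 0)) (.node (.node (.leaf 57) (.leaf 0)) (.leaf 81))) (.node (.node (.node (.leaf 0) (.leaf 246)) (.leaf 0)) (.node (.node (.leaf 0) (.leaf 0)) (.leaf 0)))))) (.node (.node (.node (.node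 (.node (.node (.leaf 0) (.leaf 0)) (.node (.leaf 190) (.leaf 0))) (.node (.node (.leaf 0) (.leaf 0)) (.leaf 117))) (.node (.node (.node (.leaf 0) (.leaf 0)) (.leaf 182)) (.node (.node (.leaf 0) (.leaf 0)) (.leaf 0)))) (.node (.node (.node (.node (.leaf 0) (.leaf 0)) (.node (.leaf 0) (.leaf 0))) (.node (.node (.leaf 160) (.leaf 0)) (.leaf 0))) (.node (.node (.node (.leaf 169) (.leaf 77)) (.leaf 0)) (.node (.node (.leaf 29) (.leaf 166)) (.leaf 0))))) (.node (.node (.node (.node (.node (.leaf 56) (.leaf 0)) (.node (.leaf 40) (.leaf 199))) (.node (.node (.leaf 0) (.leaf 0)) (.leaf 0))) (.node (.node (.node (.leaf 75) (.leaf 0)) (.leaf 0)) (.node (.node (.leaf 0) (.leaf 0)) (.leaf 0)))) (.node (.node (.node (.node (.leaf 0) (.leaf 0)) (.leaf 0)) (.node (.node (.leaf 0) (.leaf 149)) (.leaf 275))) (.node (.node (.node (.leaf 87) (.leaf 0)) (.leaf 173)) (.node (.node (.leaf 256) (.leaf 0)) (.leaf 0)))))))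

/-- Part of `posT`. -/
def posT_p11110 : Tr := .node (.node (.node (.node (.node (.node (.node (.node (.leaf 0) (.leaf 0)) (.node (.leaf 192) (.leaf 0))) (.node (.node (.leaf 131) (.leaf 0)) (.leaf 0))) (.node (.node (.node (.leaf 0) (.leaf 48)) (.leaf 206)) (.node (.node (.leaf 0) (.leaf 278)) (.leaf 0)))) (.node (.node (.node (.node (.leaf 219) (.leaf 0)) (.node (.leaf 0) (.leaf 0))) (.node (.node (.leaf 63) (.leaf 0)) (.leaf 0))) (.node (.node (.node (.leaf 0) (.leaf 0)) (.leaf 0)) (.node (.node (.leaf 243) (.leaf 45)) (.leaf 243))))) (.node (.node (.node (.node (.node (.leaf 0) (.leaf 0)) (.node (.leaf 57) (.leaf 0))) (.node (.node (.leaf 0) (.leaf 0)) (.leaf 0))) (.node (.node (.node (.leaf 0) (.leaf 0)) (.leaf 0)) (.node (.node (.leaf 0) (.leaf 159)) (.leaf 0)))) (.node (.node (.node (.node (.leaf 0) (.leaf 207)) (.node (.leaf 0) (.leaf 35))) (.node (.node (.leaf 266) (.leaf 170)) (.leaf 255))) (.node (.node (.node (.leaf 0) (.leaf 110)) (.leaf 226))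 (.node (.node (.leaf 0) (.leaf 256)) (.leaf 0)))))) (.node (.node (.node (.node (.node (.node (.leaf 0) (.leaf 0)) (.node (.leaf 0) (.leaf 0))) (.node (.node (.leaf 0) (.leaf 0)) (.leaf 55))) (.node (.node (.node (.leaf 0) (.leaf 114)) (.leaf 129)) (.node (.node (.leaf 185) (.leaf 0)) (.leaf 16)))) (.node (.node (.node (.node (.leaf 0) (.leaf 236)) (.node (.leaf 0) (.leaf 0))) (.node (.node (.leaf 0) (.leaf 83)) (.leaf 0))) (.node (.node (.node (.leaf 0) (.leaf 0)) (.leaf 0)) (.node (.node (.leaf 0) (.leaf 0)) (.leaf 262))))) (.node (.node (.node (.node (.node (.leaf 22) (.leaf 38)) (.node (.leaf 0) (.leaf 0))) (.node (.node (.leaf 0) (.leaf 197)) (.leaf 0))) (.node (.node (.node (.leaf 44) (.leaf 0)) (.leaf 46)) (.node (.node (.leaf 0) (.leaf 0)) (.leaf 186)))) (.node (.node (.node (.node (.leaf 0) (.leaf 0)) (.leaf 5)) (.node (.node (.leaf 95) (.leaf 0)) (.leaf 0))) (.node (.node (.node (.leaf 120) (.leaf 0)) (.leaf 166)) (.node (.node (.leaf 0) (.leaf 0))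 (.leaf 0))))))) (.node (.node (.node (.node (.node (.node (.node (.leaf 274) (.leaf 0)) (.node (.leaf 0) (.leaf 0))) (.node (.node (.leaf 0) (.leaf 0)) (.leaf 0))) (.node (.node (.node (.leaf 0) (.leaf 0)) (.leaf 0)) (.node (.node (.leaf 170) (.leaf 0)) (.leaf 0)))) (.node (.node (.node (.node (.leaf 32) (.leaf 0)) (.node (.leaf 120) (.leaf 0))) (.node (.node (.leaf 158) (.leaf 0)) (.leaf 0))) (.node (.node (.node (.leaf 0) (.leaf 0)) (.leaf 0)) (.node (.node (.leaf 0) (.leaf 134)) (.leaf 0))))) (.node (.node (.node (.node (.node (.leaf 0) (.leaf 0)) (.node (.leaf 37) (.leaf 0))) (.node (.node (.leaf 166) (.leaf 0)) (.leaf 188))) (.node (.node (.node (.leaf 0) (.leaf 0)) (.leaf 0)) (.node (.node (.leaf 0) (.leaf 80)) (.leaf 0)))) (.node (.node (.node (.node (.leaf 0) (.leaf 0)) (.leaf 144)) (.node (.node (.leaf 244) (.leaf 0)) (.leaf 64))) (.node (.node (.node (.leaf 275) (.leaf 257)) (.leaf 0)) (.node (.node (.leaf 0) (.leaf 261)) (.leaf 0)))))) (.node (.node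 (.node (.node (.node (.node (.leaf 191) (.leaf 0)) (.node (.leaf 0) (.leaf 0))) (.node (.node (.leaf 0) (.leaf 160)) (.leaf 0))) (.node (.node (.node (.leaf 0) (.leaf 0)) (.leaf 0)) (.node (.node (.leaf 9) (.leaf 0)) (.leaf 193)))) (.node (.node (.node (.node (.leaf 219) (.leaf 0)) (.node (.leaf 0) (.leaf 0))) (.node (.node (.leaf 243) (.leaf 207)) (.leaf 20))) (.node (.node (.node (.leaf 0) (.leaf 137)) (.leaf 0)) (.node (.node (.leaf 0) (.leaf 0)) (.leaf 0))))) (.node (.node (.node (.node (.node (.leaf 0) (.leaf 0)) (.node (.leaf 0) (.leaf 152))) (.node (.node (.leaf 0) (.leaf 187)) (.leaf 0))) (.node (.node (.node (.leaf 0) (.leaf 0)) (.leaf 0)) (.node (.node (.leaf 0) (.leaf 0)) (.leaf 121)))) (.node (.node (.node (.node (.leaf 0) (.leaf 0)) (.leaf 273)) (.node (.node (.leaf 0) (.leaf 153)) (.leaf 0))) (.node (.node (.node (.leaf 0) (.leaf 0)) (.leaf 28)) (.node (.node (.leaf 0) (.leaf 0)) (.leaf 51)))))))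

/-- Part of `posT`. -/
def posT_p11111 : Tr := .node (.node (.node (.node (.node (.node (.node (.node (.leaf 269) (.leaf 0)) (.node (.leaf 0) (.leaf 275))) (.node (.node (.leaf 0) (.leaf 0)) (.leaf 29))) (.node (.node (.node (.leaf 237) (.leaf 0)) (.leaf 0)) (.node (.node (.leaf 0) (.leaf 184)) (.leaf 0)))) (.node (.node (.node (.node (.leaf 0) (.leaf 0)) (.node (.leaf 164) (.leaf 0))) (.node (.node (.leaf 0) (.leaf 86)) (.leaf 0))) (.node (.node (.node (.leaf 0) (.leaf 0)) (.leaf 0)) (.node (.node (.leaf 0) (.leaf 0)) (.leaf 160))))) (.node (.node (.node (.node (.node (.leaf 0) (.leaf 0)) (.node (.leaf 75) (.leaf 0))) (.node (.node (.leaf 0) (.leaf 228)) (.leaf 0))) (.node (.node (.node (.leaf 0) (.leaf 28)) (.leaf 0)) (.node (.node (.leaf 0) (.leaf 0)) (.leaf 129)))) (.node (.node (.node (.node (.leaf 0) (.leaf 0)) (.node (.leaf 0) (.leaf 0))) (.node (.node (.leaf 150) (.leaf 0)) (.leaf 157))) (.node (.node (.node (.leaf 0) (.leaf 0)) (.leaf 0)) (.node (.node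 (.leaf 0) (.leaf 0)) (.leaf 203)))))) (.node (.node (.node (.node (.node (.node (.leaf 0) (.leaf 0)) (.node (.leaf 228) (.leaf 0))) (.node (.node (.leaf 93) (.leaf 61)) (.leaf 0))) (.node (.node (.node (.leaf 191) (.leaf 0)) (.leaf 0)) (.node (.node (.leaf 0) (.leaf 168)) (.leaf 0)))) (.node (.node (.node (.node (.leaf 24) (.leaf 0)) (.node (.leaf 38) (.leaf 19))) (.node (.node (.leaf 0) (.leaf 0)) (.leaf 0))) (.node (.node (.node (.leaf 51) (.leaf 0)) (.leaf 0)) (.node (.node (.leaf 0) (.leaf 0)) (.leaf 253))))) (.node (.node (.node (.node (.node (.leaf 0) (.leaf 0)) (.node (.leaf 157) (.leaf 0))) (.node (.node (.leaf 0) (.leaf 179)) (.leaf 59))) (.node (.node (.node (.leaf 0) (.leaf 0)) (.leaf 0)) (.node (.node (.leaf 0) (.leaf 0)) (.leaf 1)))) (.node (.node (.node (.node (.leaf 0) (.leaf 0)) (.leaf 156)) (.node (.node (.leaf 37) (.leaf 0)) (.leaf 0))) (.node (.node (.node (.leaf 0) (.leaf 102)) (.leaf 140)) (.node (.node (.leaf 268) (.leaf 0)) (.leaf 0)))))))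 (.node (.node (.node (.node (.node (.node (.node (.leaf 0) (.leaf 0)) (.node (.leaf 0) (.leaf 0))) (.node (.node (.leaf 260) (.leaf 128)) (.leaf 0))) (.node (.node (.node (.leaf 0) (.leaf 34)) (.leaf 165)) (.node (.node (.leaf 0) (.leaf 0)) (.leaf 250)))) (.node (.node (.node (.node (.leaf 0) (.leaf 0)) (.node (.leaf 31) (.leaf 0))) (.node (.node (.leaf 134) (.leaf 132)) (.leaf 0))) (.node (.node (.node (.leaf 0) (.leaf 59)) (.leaf 0)) (.node (.node (.leaf 121) (.leaf 55)) (.leaf 0))))) (.node (.node (.node (.node (.node (.leaf 94) (.leaf 0)) (.node (.leaf 0) (.leaf 71))) (.node (.node (.leaf 0) (.leaf 186)) (.leaf 0))) (.node (.node (.node (.leaf 0) (.leaf 0)) (.leaf 0)) (.node (.node (.leaf 0) (.leaf 39)) (.leaf 0)))) (.node (.node (.node (.node (.leaf 0) (.leaf 0)) (.leaf 0)) (.node (.node (.leaf 0) (.leaf 0)) (.leaf 40))) (.node (.node (.node (.leaf 167) (.leaf 0)) (.leaf 0)) (.node (.node (.leaf 0) (.leaf 0)) (.leaf 0)))))) (.node (.node (.node (.node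 (.node (.node (.leaf 0) (.leaf 185)) (.node (.leaf 222) (.leaf 0))) (.node (.node (.leaf 253) (.leaf 0)) (.leaf 0))) (.node (.node (.node (.leaf 0) (.leaf 278)) (.leaf 0)) (.node (.node (.leaf 169) (.leaf 103)) (.leaf 0)))) (.node (.node (.node (.node (.leaf 0) (.leaf 0)) (.node (.leaf 188) (.leaf 0))) (.node (.node (.leaf 0) (.leaf 0)) (.leaf 0))) (.node (.node (.node (.leaf 0) (.leaf 0)) (.leaf 16)) (.node (.node (.leaf 0) (.leaf 0)) (.leaf 0))))) (.node (.node (.node (.node (.node (.leaf 94) (.leaf 0)) (.node (.leaf 0) (.leaf 0))) (.node (.node (.leaf 0) (.leaf 0)) (.leaf 0))) (.node (.node (.node (.leaf 0) (.leaf 195)) (.leaf 196)) (.node (.node (.leaf 0) (.leaf 0)) (.leaf 266)))) (.node (.node (.node (.node (.leaf 0) (.leaf 109)) (.leaf 175)) (.node (.node (.leaf 0) (.leaf 218)) (.leaf 167))) (.node (.node (.node (.leaf 0) (.leaf 0)) (.leaf 256)) (.node (.node (.leaf 253) (.leaf 0)) (.leaf 33)))))))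

/-- The point of each isotropic code. -/
def posT : Tr := .node (.node (.node (.node (.node (posT_p00000) (posT_p00001)) (.node (posT_p00010) (posT_p00011))) (.node (.node (posT_p00100) (posT_p00101)) (.node (posT_p00110) (posT_p00111)))) (.node (.node (.node (posT_p01000) (posT_p01001)) (.node (posT_p01010) (posT_p01011))) (.node (.node (posT_p01100) (posT_p01101)) (.node (posT_p01110) (posT_p01111))))) (.node (.node (.node (.node (posT_p10000) (posT_p10001)) (.node (posT_p10010) (posT_p10011))) (.node (.node (posT_p10100) (posT_p10101)) (.node (posT_p10110) (posT_p10111)))) (.node (.node (.node (posT_p11000) (posT_p11001)) (.node (posT_p11010) (posT_p11011))) (.node (.node (posT_p11100) (posT_p11101)) (.node (posT_p11110) (posT_p11111)))))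

end CfsgLib.Sporadic.ConwayPsu43
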